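import Cfsg.Agent.Lib.ChevStr.Mem
import Cfsg.Prelude.Def_ChevAutomorphisms

/-!
A Chevalley group is generated by its monomial subgroup together with fundamental root subgroups,
one from each orbit of the Weyl group, or only a short one if a long root is a commutator root of
two short ones with invertible coefficient.
-/

set_option autoImplicit false

namespace CfsgLib.ChevGen

open Cfsg.Lie CfsgLib.ChevStr
open scoped MatrixGroups

/-- Two fundamental roots `l`, `m` with `w_l w_m (p_l) = p_m`. -/
def simpleAdj (D : ChevalleyDatum) (l m : Fin D.rank) : Bool :=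
  D.reflectRoot l.val (D.reflectRoot m.val (D.simple l.val)) == D.simple m.val

/-- Fundamental roots linked to the `i`-th by at most `n` steps of `simpleAdj`. -/
def simpleReach (D : ChevalleyDatum) (i : Fin D.rank) : ℕ → List (Fin D.rank)
  | 0 => [i]
  | n + 1 => (List.finRange D.rank).filter fun m =>
      (simpleReach D i n).any fun l => decide (l = m) || simpleAdj D l m

/-- Fundamental roots of the same length are linked. -/
def lengthCheck (D : ChevalleyDatum) : Bool :=
  (List.finRange D.rank).all fun i => (List.finRange D.rank).all fun k =>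
    (D.isLong (D.simple i.val) != D.isLong (D.simple k.val)) ||
      decide (k ∈ simpleReach D i D.rank)

/-- A long fundamental root `p_k` is the only root in the commutator formula of `w_k(p_l)` and
`-p_l` for a short fundamental root `p_l`, with coefficient `±z`. -/
def longCheck (D : ChevalleyDatum) (z : ℕ) : Bool :=
  (List.finRange D.rank).any fun k => (List.finRange D.rank).any fun l =>
    D.isLong (D.simple k.val) && !D.isLong (D.simple l.val) &&
      let a := D.reflectRoot k.val (D.simple l.val)
      let b := D.reflectRoot l.val (D.simple l.val)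
      !Nat.beq b a && !Nat.beq b (D.neg a) &&
      (decide (D.commTerms a b = [(D.simple k.val, (z : ℤ), 1, 1)]) ||
        decide (D.commTerms a b = [(D.simple k.val, -(z : ℤ), 1, 1)]))

variable {D : ChevalleyDatum} {F : Type*} [Field F] (C : ChevCore D F)

/-- A subgroup containing `N` and a root subgroup contains those of the whole Weyl orbit. -/
theorem mem_of_weyl {M : Subgroup (GL D.Idx F)} (hM : D.monomialSubgroup F ≤ M)
    {s : Fin D.nroots} (hs : ∀ t, C.xGL s t ∈ M) {w : Equiv.Perm (Fin D.nroots)}
    (hw : w ∈ C.hR.weyl) (t : F) : C.xGL (w s) t ∈ M := by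
  obtain ⟨n, hn, -, e, he⟩ := C.exists_rep hw
  have hnM : n ∈ M := hM (by rw [C.monomialSubgroup_eq]; exact Subgroup.mem_sup_right hn)
  obtain ⟨h1, -, h2⟩ := he s
  have h3 : C.xGL (w s) t = n * C.xGL s ((e s : F) * t) * n⁻¹ := by
    rw [h2]; rcases h1 with h | h <;> simp [h]
  rw [h3]
  exact mul_mem (mul_mem hnM (hs _)) (inv_mem hnM)

theorem mem_of_simpleReach {M : Subgroup (GL D.Idx F)} (hM : D.monomialSubgroup F ≤ M)
    (i : Fin D.rank) (hi : ∀ t, C.xGL (D.simple i.val) t ∈ M) :
    ∀ n, ∀ m ∈ simpleReach D i n, ∀ t, C.xGL (D.simple m.val) t ∈ M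
  | 0, m, hm => by simp only [simpleReach, List.mem_singleton] at hm; exact hm ▸ hi
  | n + 1, m, hm => by
    simp only [simpleReach, List.mem_filter, List.any_eq_true, Bool.or_eq_true,
      decide_eq_true_eq, simpleAdj, beq_iff_eq] at hm
    obtain ⟨-, l, hl, rfl | hlm⟩ := hm
    · exact mem_of_simpleReach hM i hi n l hl
    · intro t
      have h1 := mem_of_weyl C hM (s := ⟨D.simple l.val, C.R.simple_lt l⟩)
        (mem_of_simpleReach hM i hi n l hl)
        (mul_mem (C.hR.sPerm_mem l) (C.hR.sPerm_mem m)) t
      rwa [Equiv.Perm.mul_apply, ReflData.sPerm_val, ReflData.sPerm_val, hlm] at h1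

/-- `N` and all fundamental root subgroups generate the group. -/
theorem group_le_of_simple {M : Subgroup (GL D.Idx F)} (hM : D.monomialSubgroup F ≤ M)
    (h : ∀ (k : Fin D.rank) t, C.xGL (D.simple k.val) t ∈ M) : D.group F ≤ M := by
  refine C.group_le fun r t hr => ?_
  obtain ⟨w, hw, k, hk⟩ := C.exists_simple_image ⟨r, hr⟩
  have h1 := mem_of_weyl C hM (s := ⟨D.simple k.val, C.R.simple_lt k⟩) (h k) hw t
  rwa [hk] at h1

theorem simple_mem_of_length (hc : lengthCheck D = true) {M : Subgroup (GL D.Idx F)}
    (hM : D.monomialSubgroup F ≤ M) (i k : Fin D.rank)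
    (hl : D.isLong (D.simple i.val) = D.isLong (D.simple k.val))
    (hi : ∀ t, C.xGL (D.simple i.val) t ∈ M) : ∀ t, C.xGL (D.simple k.val) t ∈ M := by
  simp only [lengthCheck, List.all_eq_true, List.mem_finRange, true_implies, Bool.or_eq_true,
    bne_iff_ne, decide_eq_true_eq] at hc
  exact mem_of_simpleReach C hM i hi _ k ((hc i k).resolve_left fun h => h hl)

/-- `N` and one root subgroup for each length generate. -/
theorem group_le_two (hc : lengthCheck D = true) {M : Subgroup (GL D.Idx F)}
    (hM : D.monomialSubgroup F ≤ M) (i j : Fin D.rank)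
    (hi : D.isLong (D.simple i.val) = false) (hj : D.isLong (D.simple j.val) = true)
    (hMi : ∀ t, C.xGL (D.simple i.val) t ∈ M) (hMj : ∀ t, C.xGL (D.simple j.val) t ∈ M) :
    D.group F ≤ M := by
  refine group_le_of_simple C hM fun k => ?_
  cases hk : D.isLong (D.simple k.val)
  · exact simple_mem_of_length C hc hM i k (hi.trans hk.symm) hMi
  · exact simple_mem_of_length C hc hM j k (hj.trans hk.symm) hMj

/-- `N` and a short root subgroup generate, given an invertible commutator coefficient. -/
theorem group_le_short (hc : lengthCheck D = true) {z : ℕ} (hz : (z : F) ≠ 0)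
    (hL : (List.finRange D.rank).all (fun k => !D.isLong (D.simple k.val)) = true ∨
      longCheck D z = true)
    {M : Subgroup (GL D.Idx F)} (hM : D.monomialSubgroup F ≤ M) (i : Fin D.rank)
    (hi : D.isLong (D.simple i.val) = false) (hMi : ∀ t, C.xGL (D.simple i.val) t ∈ M) :
    D.group F ≤ M := by
  rcases hL with h | h
  · simp only [List.all_eq_true, List.mem_finRange, true_implies, Bool.not_eq_true'] at h
    exact group_le_of_simple C hM fun k => simple_mem_of_length C hc hM i k (hi.trans (h k).symm) hMi
  simp only [longCheck, List.any_eq_true, List.mem_finRange, true_and, Bool.and_eq_true,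
    Bool.not_eq_true', Bool.eq_false_iff, ne_eq, Nat.beq_eq, Bool.or_eq_true,
    decide_eq_true_eq] at h
  obtain ⟨k, l, ⟨hk, hl⟩, ⟨hba, hbn⟩, hterms⟩ := h
  refine group_le_two C hc hM i k hi hk hMi ?_
  have hl' : D.isLong (D.simple l.val) = false := by simpa using hl
  have hMl := simple_mem_of_length C hc hM i l (hi.trans hl'.symm) hMi
  set a := D.reflectRoot k.val (D.simple l.val) with hadef
  set b := D.reflectRoot l.val (D.simple l.val) with hbdef
  have hMa : ∀ t, C.xGL a t ∈ M := fun t => by
    have h1 := mem_of_weyl C hM (s := ⟨D.simple l.val, C.R.simple_lt l⟩) hMl (C.hR.sPerm_mem k) t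
    rwa [ReflData.sPerm_val] at h1
  have hMb : ∀ t, C.xGL b t ∈ M := fun t => by
    have h1 := mem_of_weyl C hM (s := ⟨D.simple l.val, C.R.simple_lt l⟩) hMl (C.hR.sPerm_mem l) t
    rwa [ReflData.sPerm_val] at h1
  obtain ⟨c, hc0, hterm⟩ : ∃ c : ℤ, (c : F) ≠ 0 ∧ D.commTerms a b = [(D.simple k.val, c, 1, 1)] := by
    rcases hterms with h | h
    · exact ⟨z, by simpa using hz, h⟩
    · exact ⟨-z, by simpa using hz, h⟩
  intro t
  have h1 := C.comm a (C.hR.refl_lt k _ (C.R.simple_lt l)) b (C.hR.refl_lt l _ (C.R.simple_lt l))
    hba hbn (-(t / (c : F))) 1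
  rw [ChevalleyDatum.commWord, hterm] at h1
  simp only [List.map_cons, List.map_nil, ChevalleyDatum.wordMat, List.prod_cons, List.prod_nil,
    mul_one, neg_neg, pow_one] at h1
  rw [mul_div_cancel₀ t hc0] at h1
  have h2 : C.xGL b 1 * C.xGL a (-(t / (c : F))) =
      C.xGL a (-(t / (c : F))) * C.xGL b 1 * C.xGL (D.simple k.val) t :=
    Units.ext (by simpa using h1)
  rw [eq_inv_mul_iff_mul_eq.2 h2.symm]
  exact mul_mem (inv_mem (mul_mem (hMa _) (hMb _))) (mul_mem (hMb _) (hMa _))

theorem lengthCheckG2 : lengthCheck chevG2 = true := by decide +kernel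
theorem lengthCheckB2 : lengthCheck chevB2 = true := by decide +kernel
theorem lengthCheckD4 : lengthCheck chevD4 = true := by decide +kernel
theorem lengthCheckF4 : lengthCheck chevF4 = true := by decide +kernel
theorem lengthCheckE6 : lengthCheck chevE6 = true := by decide +kernel
theorem lengthCheckE7 : lengthCheck chevE7 = true := by decide +kernel
theorem lengthCheckE8 : lengthCheck chevE8 = true := by decide +kernel

theorem longCheckG2 : longCheck chevG2 3 = true := by decide +kernel
theorem longCheckB2 : longCheck chevB2 2 = true := by decide +kernel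
theorem longCheckF4 : longCheck chevF4 2 = true := by decide +kernel

theorem noLongD4 : (List.finRange chevD4.rank).all (fun k => !chevD4.isLong (chevD4.simple k.val)) = true := by
  decide +kernel
theorem noLongE6 : (List.finRange chevE6.rank).all (fun k => !chevE6.isLong (chevE6.simple k.val)) = true := by
  decide +kernel
theorem noLongE7 : (List.finRange chevE7.rank).all (fun k => !chevE7.isLong (chevE7.simple k.val)) = true := by
  decide +kernel
theorem noLongE8 : (List.finRange chevE8.rank).all (fun k => !chevE8.isLong (chevE8.simple k.val)) = true := by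
  decide +kernel

end CfsgLib.ChevGen
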