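import Cfsg.Agent.Lib.ChevGen.TwistGen
import Cfsg.Agent.Lib.ChevStr.InstanceTables
import Cfsg.Prelude.Def_LieTwisted
import Mathlib.FieldTheory.Finite.Basic
import Mathlib.Algebra.CharP.Lemmas

/-! Two generators of the twisted group ³D₄. -/

set_option autoImplicit false

namespace CfsgLib.ChevGen

open Cfsg.Lie CfsgLib.ChevStr

/-- The signs of the representatives of type D4. -/
def etaD4 : Fin chevD4.rank → ℕ → ℤ := fun i r => Chev.D4.cert.T.eta i.val r

/-- The word of the relative Coxeter element. -/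
def wD4 : List (Fin chevD4.rank) :=
  [⟨1, by decide⟩, ⟨0, by decide⟩, ⟨2, by decide⟩, ⟨3, by decide⟩]

theorem d4_maps :
    ([17, 20, 21].map (coxApply chevD4 wD4) = [18, 13, 12] ∧
      ∀ a ∈ [17, 20, 21], a < chevD4.nroots) ∧
    MapsSign etaD4 (coxWord 3 wD4) [18, 13, 12] [5, 10, 11] ∧
    MapsSign etaD4 (coxWord 1 wD4) [14] [23] ∧
    MapsSign etaD4 (coxWord 5 wD4) [23] [14] ∧
    MapsSign etaD4 (coxWord 3 wD4) [14] [9] := by
  decide +kernel

theorem d4_comm :
    CommList chevD4 [18, 13, 12] [18, 13, 12] ∧ CommList chevD4 [23] [23] ∧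
    (∀ a ∈ [18, 13, 12], ∀ b ∈ [18, 13, 12], a ≠ b →
      CommList chevD4 [a, chevD4.neg a] [b, chevD4.neg b]) ∧
    CommList chevD4 [13, chevD4.neg 13] [18, chevD4.neg 18] ∧
    CommList chevD4 [12, chevD4.neg 12] [18, chevD4.neg 18] ∧
    CommList chevD4 [12, chevD4.neg 12] [13, chevD4.neg 13] := by
  decide +kernel

theorem d4_roots :
    chevD4.simple 0 = 18 ∧ chevD4.simple 1 = 14 ∧ chevD4.simple 2 = 13 ∧ chevD4.simple 3 = 12 ∧
    [18, 13, 12].map chevD4.neg = [5, 10, 11] ∧ [14].map chevD4.neg = [9] := by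
  decide +kernel

theorem d4_chars :
    ([18, 13, 12, 17, 20, 21, 23, 14].map fun r =>
      (chevD4.cartan 0 r, chevD4.cartan 2 r, chevD4.cartan 3 r)) =
      [(2, 0, 0), (0, 2, 0), (0, 0, 2), (-1, 1, 1), (1, -1, 1), (1, 1, -1), (0, 0, 0),
        (-1, -1, -1)] := by
  decide +kernel

variable {K : Type*} [Field K]

theorem d4_mem_triple (q : ℕ) {a b c : ℕ}
    (h : (a, b, c) ∈ [(d4p1, d4p3, d4p4), (d4m1, d4m3, d4m4)]) (t : K) :
    twX (coreD4 K) q [a, b, c] t ∈ twistedD4 K q := by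
  refine Subgroup.subset_closure
    ⟨[(a, t), (b, t ^ q), (c, t ^ q ^ 2)], Or.inr ⟨t, (a, b, c), h, rfl⟩, ?_⟩
  simp only [twX, twWord, ← pow_mul, ← pow_two]
  exact (coreD4 K).coe_wordGL _

theorem d4_mem_single (q : ℕ) {a : ℕ} (h : a ∈ [d4p2, d4m2]) {t : K}
    (ht : t ^ q = t) : twX (coreD4 K) q [a] t ∈ twistedD4 K q :=
  Subgroup.subset_closure
    ⟨[(a, t)], Or.inl ⟨t, ht, a, h, rfl⟩, (coreD4 K).coe_wordGL _⟩

/-- Two generators of ³D₄(q). -/
theorem two_generated_twistedD4 [Fintype K] {p k q : ℕ} [Fact p.Prime] [CharP K p]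
    (hqp : q = p ^ k) (hk : 1 ≤ k) (hK : Fintype.card K = q ^ 3) :
    ∃ a b : ↥(twistedD4 K q), Subgroup.closure ({a, b} : Set ↥(twistedD4 K q)) = ⊤ := by
  classical
  have hp : p.Prime := Fact.out
  have : ExpChar K p := ExpChar.prime hp
  have hq : 2 ≤ q := hqp ▸ le_trans hp.two_le (Nat.le_self_pow (by omega) p)
  have hadd : ∀ t u : K, (t + u) ^ q = t ^ q + u ^ q := fun t u => by
    rw [hqp]; exact add_pow_expChar_pow t u p k
  have hneg : (-1 : K) ^ q = -1 := by rw [hqp]; exact neg_one_pow_expChar_pow ..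
  obtain ⟨g, hg⟩ := IsCyclic.exists_generator (α := Kˣ)
  have hord : orderOf g = q ^ 3 - 1 := by
    rw [orderOf_eq_card_of_forall_mem_zpowers hg, Nat.card_units, Nat.card_eq_fintype_card, hK]
  have hq4 : 4 ≤ q * q := Nat.mul_le_mul hq hq
  have hq8 : 8 ≤ q ^ 3 := le_trans (by norm_num) (Nat.pow_le_pow_left hq 3)
  have hg3 : ((g ^ q) ^ q) ^ q = g := Units.ext (by
    simp only [Units.val_pow_eq_pow_val]
    rw [← pow_mul, ← pow_mul, show q * (q * q) = q ^ 3 by ring, ← hK]
    exact FiniteField.pow_card (g : K))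
  have hg2 : g ^ (2 : ℤ) ≠ 1 := fun h => by
    rw [zpow_two, ← pow_two] at h
    have := Nat.le_of_dvd (by norm_num) (orderOf_dvd_of_pow_eq_one h)
    omega
  set C := coreD4 K with hC
  obtain ⟨m0, m3, y1, y5, l3⟩ := d4_maps
  obtain ⟨cA, cy, cn, cn31, cn41, cn43⟩ := d4_comm
  obtain ⟨s0, s1, s2, s3, nA, n2⟩ := d4_roots
  set c : Fin chevD4.rank → Kˣ := Pi.mulSingle ⟨0, by decide⟩ g *
    Pi.mulSingle ⟨2, by decide⟩ (g ^ q) * Pi.mulSingle ⟨3, by decide⟩ ((g ^ q) ^ q) with hc
  have hχ : ∀ r, r < chevD4.nroots → ∀ x y z : ℤ, chevD4.cartan 0 r = x →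
      chevD4.cartan 2 r = y → chevD4.cartan 3 r = z →
      C.R.torusChar c (C.R.α r) = g ^ x * (g ^ q) ^ y * ((g ^ q) ^ q) ^ z := by
    intro r hr x y z hx hy hz
    rw [hc, C.R.torusChar_mul, C.R.torusChar_mul, C.R.torusChar_single _ _ hr,
      C.R.torusChar_single _ _ hr, C.R.torusChar_single _ _ hr, hx, hy, hz]
  have hch := d4_chars
  simp only [List.map_cons, List.map_nil, List.cons.injEq, Prod.mk.injEq, and_true] at hch
  obtain ⟨⟨a18, b18, e18⟩, ⟨a13, b13, e13⟩, ⟨a12, b12, e12⟩, ⟨a17, b17, e17⟩, ⟨a20, b20, e20⟩,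
    ⟨a21, b21, e21⟩, ⟨a23, b23, e23⟩, ⟨a14, b14, e14⟩⟩ := hch
  set G1 := twistedD4 K q
  have hA : ∀ t, twX C q [18, 13, 12] t ∈ G1 := d4_mem_triple q (by decide)
  have hnA : ∀ t, twX C q ([18, 13, 12].map chevD4.neg) t ∈ G1 := by
    rw [nA]; exact d4_mem_triple q (by decide)
  have htN : ∀ t, twN C q [18, 13, 12] t ∈ G1 := fun t =>
    twN_mem C hneg (by decide) cn (hA _) (hnA _)
  have hn14 : C.nGL 14 (1 : K) ∈ G1 := by
    have h := twN_mem C hneg (G1 := G1) (A := [14]) (t := 1) (List.nodup_singleton _)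
      (fun x hx y hy hne => absurd ((List.mem_singleton.1 hx).trans (List.mem_singleton.1 hy).symm) hne)
      (d4_mem_single q (by decide) (one_pow _))
      (by rw [n2]; exact d4_mem_single q (by decide) (by rw [inv_one, hneg]))
    simpa [twN] using h
  have htorG : C.R.torus c ∈ G1 := by
    have e1 : C.R.torus c = twN C q [18, 13, 12] (g : K) * twN C q [18, 13, 12] (-1) := by
      rw [hc, map_mul, map_mul,
        ← show C.hGL 18 (g : K) = C.R.torus (Pi.mulSingle ⟨0, by decide⟩ g) by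
          rw [← s0]; exact C.hGL_simple ⟨0, by decide⟩ g,
        ← show C.hGL 13 ((g : K) ^ q) = C.R.torus (Pi.mulSingle ⟨2, by decide⟩ (g ^ q)) by
          rw [← s2, ← Units.val_pow_eq_pow_val]; exact C.hGL_simple ⟨2, by decide⟩ (g ^ q),
        ← show C.hGL 12 (((g : K) ^ q) ^ q) =
            C.R.torus (Pi.mulSingle ⟨3, by decide⟩ ((g ^ q) ^ q)) by
          rw [← s3, ← Units.val_pow_eq_pow_val, ← Units.val_pow_eq_pow_val]
          exact C.hGL_simple ⟨3, by decide⟩ _,
        C.hGL_eq, C.hGL_eq, C.hGL_eq]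
      simp only [twN, mul_one, hneg]
      set a := C.nGL 18 (g : K)
      set b := C.nGL 18 (-1 : K)
      set a' := C.nGL 13 ((g : K) ^ q)
      set b' := C.nGL 13 (-1 : K)
      set a'' := C.nGL 12 (((g : K) ^ q) ^ q)
      set b'' := C.nGL 12 (-1 : K)
      have h1 : Commute a' b := commute_nGL C cn31 _ _
      have h2 : Commute a'' b := commute_nGL C cn41 _ _
      have h3 : Commute a'' b' := commute_nGL C cn43 _ _
      calc a * b * (a' * b') * (a'' * b'') = a * (b * a') * (b' * a'') * b'' := by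
            simp only [mul_assoc]
        _ = a * a' * (b * a'') * (b' * b'') := by rw [← h1.eq, ← h3.eq]; simp only [mul_assoc]
        _ = _ := by rw [← h2.eq]; simp only [mul_assoc]
    rw [e1]
    exact mul_mem (htN _) (htN _)
  have hnG : nElt C wD4 ∈ G1 := by
    have e1 : nElt C wD4 = C.nGL 14 1 * twN C q [18, 13, 12] 1 := by
      simp [nElt, wD4, ChevCore.nS, twN, s0, s1, s2, s3]
    rw [e1]
    exact mul_mem hn14 (htN _)
  obtain ⟨εy, hεy, my⟩ := exists_mapsTo y1
  have hyG : twX C q [23] (εy : K) ∈ G1 := by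
    have h1 := twX_conj_n C hneg hεy my (1 : K)
    rw [mul_one, nElt_coxWord] at h1
    rw [← h1]
    exact mul_mem (mul_mem (pow_mem hnG 1) (d4_mem_single q (by decide) (one_pow _)))
      (inv_mem (pow_mem hnG 1))
  have hy : Commute (C.R.torus c) (twX C q [23] (εy : K)) := by
    rw [twX_single]
    have h1 := C.acts_torus c ⟨23, by decide⟩ (εy : K)
    rw [hχ 23 (by decide) 0 0 0 a23 b23 e23, zpow_zero, zpow_zero, zpow_zero, one_mul, one_mul,
      Units.val_one, one_mul] at h1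
    exact mul_inv_eq_iff_eq_mul.1 h1
  have hyp : twX C q [23] (εy : K) ^ p = 1 := by
    rw [twX_single]
    have : ∀ j : ℕ, C.xGL 23 (εy : K) ^ j = C.xGL 23 ((j : K) * (εy : K)) := fun j => by
      induction j with
      | zero => simp [C.xGL_zero]
      | succ j ih => rw [_root_.pow_succ, ih, ← C.xGL_add, Nat.cast_succ, add_one_mul]
    rw [this, CharP.cast_eq_zero, zero_mul, C.xGL_zero]
  set κu : Kˣ := g ^ (-1 : ℤ) * (g ^ q) ^ (1 : ℤ) * ((g ^ q) ^ q) ^ (1 : ℤ) with hκu
  have hκ : κu ≠ 1 := by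
    intro h
    have hgq : g ^ (q + q * q - 1) = 1 := by
      rw [pow_sub _ (by omega), pow_one, pow_add, pow_mul, ← h, hκu, zpow_one, zpow_one,
        zpow_neg_one]
      simp [mul_comm, mul_left_comm, mul_assoc]
    have h2 := Nat.le_of_dvd (by omega) (orderOf_dvd_of_pow_eq_one hgq)
    rw [hord] at h2
    have h3 : 2 * (q * q) ≤ q ^ 3 := by
      rw [show q ^ 3 = q * (q * q) by ring]; exact Nat.mul_le_mul_right _ hq
    have h4 : q < q * q := lt_mul_of_one_lt_left (by omega) (by omega)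
    omega
  refine two_generated_twist C hq hadd G1 htorG hnG hyG hy hyp (hA 1) cA m0.2 m0.1 hg
    (e := 2) (Or.inr (Or.inr (Or.inl rfl))) (twScale_torus C ?_) hg2
    (κ := (κu : K)) (fun h => hκ (Units.ext h)) (twScale_torus C ?_) ?_
  · intro i hi
    match i, hi with
    | 0, _ => exact ⟨show 18 < chevD4.nroots by decide, by
        show C.R.torusChar c (C.R.α 18) = _
        rw [hχ 18 (by decide) 2 0 0 a18 b18 e18, zpow_zero, zpow_zero, mul_one, mul_one, pow_zero,
          pow_one]⟩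
    | 1, _ => exact ⟨show 13 < chevD4.nroots by decide, by
        show C.R.torusChar c (C.R.α 13) = _
        rw [hχ 13 (by decide) 0 2 0 a13 b13 e13, zpow_zero, zpow_zero, one_mul, mul_one, pow_one,
          zpow_two, zpow_two, mul_pow]⟩
    | 2, _ => exact ⟨show 12 < chevD4.nroots by decide, by
        show C.R.torusChar c (C.R.α 12) = _
        rw [hχ 12 (by decide) 0 0 2 a12 b12 e12, zpow_zero, zpow_zero, one_mul, one_mul,
          pow_two q, pow_mul, zpow_two, zpow_two, mul_pow, mul_pow]⟩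
  · intro i hi
    match i, hi with
    | 0, _ => exact ⟨show 17 < chevD4.nroots by decide, by
        show C.R.torusChar c (C.R.α 17) = _
        rw [hχ 17 (by decide) (-1) 1 1 a17 b17 e17, pow_zero, pow_one, hκu]⟩
    | 1, _ => exact ⟨show 20 < chevD4.nroots by decide, by
        show C.R.torusChar c (C.R.α 20) = _
        rw [hχ 20 (by decide) 1 (-1) 1 a20 b20 e20, hκu, pow_one]
        simp only [zpow_one, zpow_neg_one, mul_pow, inv_pow, hg3]
        ac_rfl⟩
    | 2, _ => exact ⟨show 21 < chevD4.nroots by decide, by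
        show C.R.torusChar c (C.R.α 21) = _
        rw [hχ 21 (by decide) 1 1 (-1) a21 b21 e21, hκu, pow_two q, pow_mul]
        simp only [zpow_one, zpow_neg_one, mul_pow, inv_pow, hg3]
        ac_rfl⟩
  intro M htM hyM hnM hfull
  have u5 := push_twX C hneg hnM m3 Set.univ (fun _ _ => trivial) (fun t _ => hfull t)
  set S : Set K := {t | t ^ q = t}
  have hSneg : ∀ t ∈ S, -t ∈ S := fun t (ht : t ^ q = t) => by
    show (-t) ^ q = -t
    rw [neg_pow, hneg, ht, neg_one_mul]
  have hone : twX C q [14] (1 : K) ∈ M := by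
    have h1 : ∀ t ∈ ({1, -1} : Set K), twX C q [23] t ∈ M := by
      rintro t ht
      rcases hεy with rfl | rfl <;> rcases ht with rfl | rfl <;>
        first
          | simpa using hyM
          | (have h := inv_mem hyM; rw [← twX_neg C (by omega) hadd cy] at h; simpa using h)
    exact push_twX C hneg hnM y5 {1, -1} (by rintro t (rfl | rfl) <;> simp) h1 1 (by simp)
  have hordd : orderOf g = (1 + q + q * q) * (q - 1) := by
    rw [hord]
    obtain ⟨q', rfl⟩ : ∃ q', q = q' + 1 := ⟨q - 1, by omega⟩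
    rw [Nat.add_sub_cancel, Nat.sub_eq_iff_eq_add (by omega)]
    ring
  set N : Kˣ := g ^ (-1 : ℤ) * (g ^ q) ^ (-1 : ℤ) * ((g ^ q) ^ q) ^ (-1 : ℤ) with hN
  have h14 : ∀ t ∈ S, twX C q [14] t ∈ M := fullOn_fixed C hq hg hordd (N := N)
    ⟨-1, by rw [hN]; simp [pow_add, pow_mul, mul_comm]⟩
    (twScale_torus C fun i hi => by
      match i, hi with
      | 0, _ => exact ⟨show 14 < chevD4.nroots by decide, by
          show C.R.torusChar c (C.R.α 14) = _
          rw [hχ 14 (by decide) (-1) (-1) (-1) a14 b14 e14, pow_zero, pow_one, hN]⟩) htM hone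
  have h9 := push_twX C hneg hnM l3 S hSneg h14
  refine (Subgroup.closure_le _).2 ?_
  rintro x ⟨wd, hwd, hx⟩
  obtain rfl : x = C.wordGL wd := Units.ext (by rw [hx, C.coe_wordGL])
  rcases hwd with ⟨t, ht, r, hr, rfl⟩ | ⟨t, rs, hrs, rfl⟩
  · show twX C q [r] t ∈ M
    simp only [List.mem_cons, List.not_mem_nil, or_false] at hr
    rcases hr with rfl | rfl
    exacts [h14 t ht, h9 t ht]
  · rw [show t ^ q ^ 2 = (t ^ q) ^ q by rw [pow_two, pow_mul]]
    show twX C q [rs.1, rs.2.1, rs.2.2] t ∈ M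
    simp only [List.mem_cons, List.not_mem_nil, or_false] at hrs
    rcases hrs with rfl | rfl
    exacts [hfull t, u5 t trivial]

end CfsgLib.ChevGen
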