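import Cfsg.Agent.Lib.ChevGen.TwistGen
import Cfsg.Agent.Lib.ChevStr.InstanceTables
import Cfsg.Prelude.Def_LieTwisted
import Mathlib.FieldTheory.Finite.Basic
import Mathlib.Algebra.CharP.Lemmas

/-! Two generators of the twisted group ²E₆. -/

set_option autoImplicit false

namespace CfsgLib.ChevGen

open Cfsg.Lie CfsgLib.ChevStr

/-- The signs of the representatives of type E6. -/
def etaE6 : Fin chevE6.rank → ℕ → ℤ := fun i r => Chev.E6.cert.T.eta i.val r

/-- The word of the relative Coxeter element. -/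
def wE6 : List (Fin chevE6.rank) :=
  [⟨0, by decide⟩, ⟨5, by decide⟩, ⟨2, by decide⟩, ⟨4, by decide⟩, ⟨3, by decide⟩, ⟨1, by decide⟩]

theorem e6_maps :
    ([10, 22].map (coxApply chevE6 wE6) = [56, 36] ∧ ∀ a ∈ [10, 22], a < chevE6.nroots) ∧
    MapsSign etaE6 (coxWord 1 wE6) [56, 36] [42, 37] ∧
    MapsSign etaE6 (coxWord 6 wE6) [56, 36] [35, 15] ∧
    MapsSign etaE6 (coxWord 7 wE6) [56, 36] [34, 29] ∧
    MapsSign etaE6 (coxWord 11 wE6) [46] [39] ∧
    MapsSign etaE6 (coxWord 6 wE6) [46] [25] ∧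
    MapsSign etaE6 (coxWord 5 wE6) [46] [32] ∧
    MapsSign etaE6 (coxWord 1 wE6) [39] [46] := by
  decide +kernel

theorem e6_comm :
    CommList chevE6 [56, 36] [56, 36] ∧ CommList chevE6 [39] [39] ∧ CommList chevE6 [46] [46] ∧ CommList chevE6 [35] [15] ∧
    CommList chevE6 [34] [29] ∧
    (∀ a ∈ [56, 36], ∀ b ∈ [56, 36], a ≠ b →
      CommList chevE6 [a, chevE6.neg a] [b, chevE6.neg b]) ∧
    (∀ a ∈ [42, 37], ∀ b ∈ [42, 37], a ≠ b →
      CommList chevE6 [a, chevE6.neg a] [b, chevE6.neg b]) ∧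
    CommList chevE6 [37, chevE6.neg 37] [42, chevE6.neg 42] := by
  decide +kernel

theorem e6_roots :
    chevE6.simple 0 = 56 ∧ chevE6.simple 5 = 36 ∧ chevE6.simple 2 = 42 ∧ chevE6.simple 4 = 37 ∧
    chevE6.simple 3 = 39 ∧ chevE6.simple 1 = 46 ∧
    [56, 36].map chevE6.neg = [15, 35] ∧ [42, 37].map chevE6.neg = [29, 34] ∧
    [39].map chevE6.neg = [32] ∧ [46].map chevE6.neg = [25] := by
  decide +kernel

theorem e6_chars :
    ([56, 36, 10, 22, 46, 39].map fun r => (chevE6.cartan 2 r, chevE6.cartan 4 r)) =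
      [(-1, 0), (0, -1), (0, 1), (1, 0), (0, 0), (-1, -1)] := by
  decide +kernel

variable {K : Type*} [Field K]

theorem e6_mem_pair (q : ℕ) {a b : ℕ}
    (h : (a, b) ∈ [(e6p1, e6p6), (e6m1, e6m6), (e6p3, e6p5), (e6m3, e6m5)]) (t : K) :
    twX (coreE6 K) q [a, b] t ∈ twistedE6 K q :=
  Subgroup.subset_closure
    ⟨[(a, t), (b, t ^ q)], Or.inr ⟨t, (a, b), h, rfl⟩, (coreE6 K).coe_wordGL _⟩

theorem e6_mem_single (q : ℕ) {a : ℕ} (h : a ∈ [e6p2, e6m2, e6p4, e6m4]) {t : K}
    (ht : t ^ q = t) : twX (coreE6 K) q [a] t ∈ twistedE6 K q :=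
  Subgroup.subset_closure
    ⟨[(a, t)], Or.inl ⟨t, ht, a, h, rfl⟩, (coreE6 K).coe_wordGL _⟩

/-- Two generators of ²E₆(q). -/
theorem two_generated_twistedE6 [Fintype K] {p k q : ℕ} [Fact p.Prime] [CharP K p]
    (hqp : q = p ^ k) (hk : 1 ≤ k) (hK : Fintype.card K = q ^ 2) :
    ∃ a b : ↥(twistedE6 K q), Subgroup.closure ({a, b} : Set ↥(twistedE6 K q)) = ⊤ := by
  classical
  have hp : p.Prime := Fact.out
  have : ExpChar K p := ExpChar.prime hp
  have hq : 2 ≤ q := hqp ▸ le_trans hp.two_le (Nat.le_self_pow (by omega) p)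
  have hadd : ∀ t u : K, (t + u) ^ q = t ^ q + u ^ q := fun t u => by
    rw [hqp]; exact add_pow_expChar_pow t u p k
  have hneg : (-1 : K) ^ q = -1 := by rw [hqp]; exact neg_one_pow_expChar_pow ..
  have hqq : ∀ t : K, (t ^ q) ^ q = t := fun t => by
    rw [← pow_mul, ← pow_two, ← hK]; exact FiniteField.pow_card t
  obtain ⟨g, hg⟩ := IsCyclic.exists_generator (α := Kˣ)
  have hord : orderOf g = q * q - 1 := by
    rw [orderOf_eq_card_of_forall_mem_zpowers hg, Nat.card_units, Nat.card_eq_fintype_card, hK,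
      pow_two]
  have hgqq : (g ^ q) ^ q = g := Units.ext (by simpa using hqq (g : K))
  have hgne : g ≠ 1 := fun h => by
    rw [h, orderOf_one] at hord
    have : 4 ≤ q * q := Nat.mul_le_mul hq hq
    omega
  have hgqne : g ^ q ≠ 1 := fun h => hgne (by rw [← hgqq, h, one_pow])
  set C := coreE6 K with hC
  obtain ⟨m0, m1, m6, m7, l11, l6, l5, l1⟩ := e6_maps
  obtain ⟨cA, -, cy, c35, c34, cn16, cn35, cn37⟩ := e6_comm
  obtain ⟨s0, s5, s2, s4, s3, s1, n16, n35, n4, n2⟩ := e6_roots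
  -- the torus element
  set c : Fin chevE6.rank → Kˣ :=
    Pi.mulSingle ⟨2, by decide⟩ g * Pi.mulSingle ⟨4, by decide⟩ (g ^ q) with hc
  have hχ : ∀ r, r < chevE6.nroots → ∀ x y : ℤ, chevE6.cartan 2 r = x → chevE6.cartan 4 r = y →
      C.R.torusChar c (C.R.α r) = g ^ x * (g ^ q) ^ y := by
    intro r hr x y hx hy
    rw [hc, C.R.torusChar_mul, C.R.torusChar_single _ _ hr, C.R.torusChar_single _ _ hr, hx, hy]
  have hch := e6_chars
  simp only [List.map_cons, List.map_nil, List.cons.injEq, Prod.mk.injEq, and_true] at hch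
  obtain ⟨⟨a0, b0⟩, ⟨a5, b5⟩, ⟨a10, b10⟩, ⟨a22, b22⟩, ⟨a46, b46⟩, ⟨a39, b39⟩⟩ := hch
  set G1 := twistedE6 K q
  have h16 : ∀ t, twX C q [56, 36] t ∈ G1 := e6_mem_pair q (by decide)
  have hn16 : ∀ t, twX C q ([56, 36].map chevE6.neg) t ∈ G1 := by
    rw [n16]; exact e6_mem_pair q (by decide)
  have h35 : ∀ t, twX C q [42, 37] t ∈ G1 := e6_mem_pair q (by decide)
  have hn35 : ∀ t, twX C q ([42, 37].map chevE6.neg) t ∈ G1 := by
    rw [n35]; exact e6_mem_pair q (by decide)
  have hn1 : ∀ a, a ∈ [39, 46] → C.nGL a (1 : K) ∈ G1 := by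
    intro a ha
    have h := twN_mem C hneg (G1 := G1) (A := [a]) (t := 1) (List.nodup_singleton a)
      (fun x hx y hy hne => absurd ((List.mem_singleton.1 hx).trans (List.mem_singleton.1 hy).symm) hne)
      (e6_mem_single q (by fin_cases ha <;> decide) (one_pow _))
      (by fin_cases ha
          · rw [n4]; exact e6_mem_single q (by decide) (by rw [inv_one, hneg])
          · rw [n2]; exact e6_mem_single q (by decide) (by rw [inv_one, hneg]))
    simpa [twN] using h
  have htorG : C.R.torus c ∈ G1 := by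
    have e1 : C.R.torus c = twN C q [42, 37] (g : K) * twN C q [42, 37] (-1) := by
      rw [hc, map_mul,
        ← show C.hGL 42 (g : K) = C.R.torus (Pi.mulSingle ⟨2, by decide⟩ g) by
          rw [← s2]; exact C.hGL_simple ⟨2, by decide⟩ g,
        ← show C.hGL 37 ((g : K) ^ q) = C.R.torus (Pi.mulSingle ⟨4, by decide⟩ (g ^ q)) by
          rw [← s4, ← Units.val_pow_eq_pow_val]; exact C.hGL_simple ⟨4, by decide⟩ (g ^ q),
        C.hGL_eq, C.hGL_eq]
      simp only [twN, mul_one, hneg]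
      simp only [mul_assoc]
      congr 1
      rw [← mul_assoc, ← mul_assoc, (commute_nGL C cn37 _ _).eq]
    rw [e1]
    exact mul_mem (twN_mem C hneg (by decide) cn35 (h35 _) (hn35 _))
      (twN_mem C hneg (by decide) cn35 (h35 _) (hn35 _))
  have hnG : nElt C wE6 ∈ G1 := by
    have e1 : nElt C wE6 =
        twN C q [56, 36] 1 * twN C q [42, 37] 1 * C.nGL 39 1 * C.nGL 46 1 := by
      simp [nElt, wE6, ChevCore.nS, twN, s0, s1, s2, s3, s4, s5, mul_assoc]
    rw [e1]
    exact mul_mem (mul_mem (mul_mem (twN_mem C hneg (by decide) cn16 (h16 _) (hn16 _))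
      (twN_mem C hneg (by decide) cn35 (h35 _) (hn35 _))) (hn1 39 (by simp))) (hn1 46 (by simp))
  have hy : Commute (C.R.torus c) (twX C q [46] (1 : K)) := by
    rw [twX_single]
    have h1 := C.acts_torus c ⟨46, by decide⟩ (1 : K)
    rw [hχ 46 (by decide) 0 0 a46 b46, zpow_zero, zpow_zero, one_mul, Units.val_one, one_mul] at h1
    exact mul_inv_eq_iff_eq_mul.1 h1
  have hyp : twX C q [46] (1 : K) ^ p = 1 := by
    rw [twX_single]
    have : ∀ j : ℕ, C.xGL 46 (1 : K) ^ j = C.xGL 46 (j : K) := fun j => by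
      induction j with
      | zero => simp [C.xGL_zero]
      | succ j ih => rw [_root_.pow_succ, ih, ← C.xGL_add, Nat.cast_succ]
    rw [this, CharP.cast_eq_zero, C.xGL_zero]
  refine two_generated_twist C hq hadd G1 htorG hnG
    (e6_mem_single q (by decide) (one_pow _)) hy hyp (h16 1) cA m0.2 m0.1 hg
    (e := -1) (Or.inr (Or.inl rfl)) (twScale_torus C ?_) (by simpa using hgne)
    (κ := ((g ^ q : Kˣ) : K)) (fun h => hgqne (Units.ext h)) (twScale_torus C ?_) ?_
  · intro i hi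
    match i, hi with
    | 0, _ => exact ⟨show 56 < chevE6.nroots by decide, by
        show C.R.torusChar c (C.R.α 56) = _
        rw [hχ 56 (by decide) (-1) 0 a0 b0, zpow_zero, mul_one, pow_zero, pow_one]⟩
    | 1, _ => exact ⟨show 36 < chevE6.nroots by decide, by
        show C.R.torusChar c (C.R.α 36) = _
        rw [hχ 36 (by decide) 0 (-1) a5 b5, zpow_zero, one_mul, pow_one, zpow_neg_one, zpow_neg_one,
          inv_pow]⟩
  · intro i hi
    match i, hi with
    | 0, _ => exact ⟨show 10 < chevE6.nroots by decide, by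
        show C.R.torusChar c (C.R.α 10) = _
        rw [hχ 10 (by decide) 0 1 a10 b10, zpow_zero, one_mul, zpow_one, pow_zero, pow_one]⟩
    | 1, _ => exact ⟨show 22 < chevE6.nroots by decide, by
        show C.R.torusChar c (C.R.α 22) = _
        rw [hχ 22 (by decide) 1 0 a22 b22, zpow_zero, mul_one, zpow_one, pow_one, hgqq]⟩
  intro M htM hyM hnM hfull
  have u42 := push_twX C hneg hnM m1 Set.univ (fun _ _ => trivial) (fun t _ => hfull t)
  have u35 := push_twX C hneg hnM m6 Set.univ (fun _ _ => trivial) (fun t _ => hfull t)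
  have u34 := push_twX C hneg hnM m7 Set.univ (fun _ _ => trivial) (fun t _ => hfull t)
  have p15 : ∀ t : K, twX C q [15, 35] t ∈ M := fun t => by
    have h := u35 (t ^ q) trivial
    rw [twX_swap C c35 (hqq _), hqq] at h
    exact h
  have p29 : ∀ t : K, twX C q [29, 34] t ∈ M := fun t => by
    have h := u34 (t ^ q) trivial
    rw [twX_swap C c34 (hqq _), hqq] at h
    exact h
  -- the long root subgroups
  set S : Set K := {t | t ^ q = t}
  have hSneg : ∀ t ∈ S, -t ∈ S := fun t (ht : t ^ q = t) => by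
    show (-t) ^ q = -t
    rw [neg_pow, hneg, ht, neg_one_mul]
  have hone : twX C q [39] (1 : K) ∈ M := by
    have h1 : ∀ t ∈ ({1, -1} : Set K), twX C q [46] t ∈ M := by
      rintro t (rfl | rfl)
      · exact hyM
      · rw [twX_neg C (by omega) hadd cy]; exact inv_mem hyM
    exact push_twX C hneg hnM l11 {1, -1} (by rintro t (rfl | rfl) <;> simp) h1 1 (by simp)
  have hordd : orderOf g = (q + 1) * (q - 1) := by
    rw [hord, ← Nat.sq_sub_sq, one_pow, pow_two]
  set N : Kˣ := g ^ (-1 : ℤ) * (g ^ q) ^ (-1 : ℤ) with hN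
  have h39 : ∀ t ∈ S, twX C q [39] t ∈ M := fullOn_fixed C hq hg hordd (N := N)
    ⟨-1, by rw [hN, pow_succ, zpow_neg_one, zpow_neg_one]; simp [mul_comm]⟩
    (twScale_torus C fun i hi => by
      match i, hi with
      | 0, _ => exact ⟨show 39 < chevE6.nroots by decide, by
          show C.R.torusChar c (C.R.α 39) = _
          rw [hχ 39 (by decide) (-1) (-1) a39 b39, pow_zero, pow_one, hN]⟩) htM hone
  have h46 := push_twX C hneg hnM l1 S hSneg h39
  have h25 := push_twX C hneg hnM l6 S hSneg h46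
  have h32 := push_twX C hneg hnM l5 S hSneg h46
  refine (Subgroup.closure_le _).2 ?_
  rintro x ⟨wd, hwd, hx⟩
  obtain rfl : x = C.wordGL wd := Units.ext (by rw [hx, C.coe_wordGL])
  rcases hwd with ⟨t, ht, r, hr, rfl⟩ | ⟨t, rs, hrs, rfl⟩
  · show twX C q [r] t ∈ M
    simp only [List.mem_cons, List.not_mem_nil, or_false] at hr
    rcases hr with rfl | rfl | rfl | rfl
    exacts [h46 t ht, h25 t ht, h39 t ht, h32 t ht]
  · show twX C q [rs.1, rs.2] t ∈ M
    simp only [List.mem_cons, List.not_mem_nil, or_false] at hrs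
    rcases hrs with rfl | rfl | rfl | rfl
    exacts [hfull t, p15 t, u42 t trivial, p29 t]

end CfsgLib.ChevGen
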