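import Cfsg.Agent.Lib.ChevGen.TwistGen
import Cfsg.Agent.Lib.SmallRee.Char3Check
import Cfsg.Agent.Lib.ChevStr.InstanceTables
import Cfsg.Prelude.Def_LieTwisted
import Mathlib.FieldTheory.Finite.Basic
import Mathlib.Algebra.CharP.Lemmas
import Mathlib.Algebra.CharP.Two

/-! Two generators of a large Ree group. -/

set_option autoImplicit false

namespace CfsgLib.ChevGen

open Cfsg.Lie CfsgLib.ChevStr
open scoped MatrixGroups

/-- The word of the relative Coxeter element. -/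
def wF4 : List (Fin chevF4.rank) :=
  [⟨0, by decide⟩, ⟨3, by decide⟩, ⟨1, by decide⟩, ⟨2, by decide⟩, ⟨1, by decide⟩, ⟨2, by decide⟩]

theorem f4_maps :
    [24, 33].map (coxApply chevF4 (coxWord 2 wF4)) = [45, 39] ∧
    [24, 33].map (coxApply chevF4 (coxWord 4 wF4)) = [23, 14] ∧
    [27, 25, 28, 30].map (coxApply chevF4 (coxWord 4 wF4)) = [20, 22, 19, 17] ∧
    [35, 31, 40, 46].map (coxApply chevF4 wF4) = [27, 25, 28, 30] ∧
    (∀ r ∈ [24, 33, 27, 25, 28, 30, 35, 31, 40, 46, 45, 39], r < chevF4.nroots) := by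
  decide +kernel

theorem f4_roots :
    chevF4.simple 0 = 33 ∧ chevF4.simple 1 = 27 ∧ chevF4.simple 2 = 25 ∧ chevF4.simple 3 = 24 ∧
    [24, 33].map chevF4.neg = [23, 14] ∧ chevF4.neg 27 = 20 ∧ chevF4.neg 25 = 22 := by
  decide +kernel

theorem f4_comm :
    CommList chevF4 [24, 33] [24, 33] ∧ CommList chevF4 [23] [14] ∧ CommList chevF4 [45, 39] [45, 39] ∧
    (∀ a ∈ [24, 33], ∀ b ∈ [24, 33], a ≠ b →
      CommList chevF4 [a, chevF4.neg a] [b, chevF4.neg b]) ∧
    CommList chevF4 [33, chevF4.neg 33] [24, chevF4.neg 24] ∧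
    CommList chevF4 [28, 30] [28, 30] ∧ CommList chevF4 [25] [28, 30] := by
  decide +kernel

theorem f4_class_comm :
    27 < chevF4.nroots ∧ 25 < chevF4.nroots ∧ 25 ≠ 27 ∧ 25 ≠ chevF4.neg 27 ∧
      chevF4.commTerms 27 25 = [(28, -1, 1, 1), (30, -1, 2, 1)] := by
  decide +kernel

theorem f4_chars :
    ([24, 33, 27, 25, 28, 30, 35, 31, 40, 46, 45, 39].map fun r =>
      (chevF4.cartan 3 r, chevF4.cartan 0 r)) =
      [(2, 0), (0, 2), (0, -1), (-1, 0), (-1, -1), (-1, -2), (-1, 1), (1, -2), (0, -1), (-1, 0),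
        (0, 0), (0, 0)] := by
  decide +kernel

/-- A word with coefficients one. -/
def oneLetters (l : List ℕ) : List CfsgLib.Chev.Letter := l.map fun r => ⟨r, 1, 0, 0⟩

theorem f4_nB :
    CfsgLib.SmallRee.checkMod CfsgLib.Chev.F4.cert.T 2
      (oneLetters [27, 20, 27, 25, 22, 25, 27, 20, 27, 25, 22, 25])
      (oneLetters [27, 25, 28, 19, 17, 27, 25, 30]) = true := by
  decide +kernel

variable {K : Type*} [Field K] [CharP K 2]

omit [CharP K 2] in
theorem f4_mem_pair (θ : ℕ) {a b : ℕ} (hc : CommList chevF4 [a] [b])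
    (h : (b, a) ∈ [(f4p1, f4p4), (f4m1, f4m4)]) (t : K) :
    twX (coreF4 K) θ [a, b] t ∈ twistedF4 K θ := by
  rw [twX_cons, twX_single, (commute_xGL_of_commList _ hc (by simp) (by simp) _ _).eq]
  simp only [List.mem_cons, List.not_mem_nil, or_false, Prod.mk.injEq] at h
  refine Subgroup.subset_closure ⟨f4PairWord θ b a t, Or.inl ⟨t, ?_⟩, ?_⟩
  · rcases h with ⟨rfl, rfl⟩ | ⟨rfl, rfl⟩
    exacts [Or.inl rfl, Or.inr rfl]
  · rw [← (coreF4 K).coe_wordGL]
    simp [f4PairWord, ChevCore.wordGL_cons, ChevCore.wordGL_nil]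

theorem nElt_conj_word (w : List (Fin chevF4.rank)) :
    ∀ W : List (ℕ × K), (∀ p ∈ W, p.1 < chevF4.nroots) →
      nElt (coreF4 K) w * (coreF4 K).wordGL W * (nElt (coreF4 K) w)⁻¹ =
        (coreF4 K).wordGL (W.map fun p => (coxApply chevF4 w p.1, p.2))
  | [], _ => by simp [ChevCore.wordGL_nil]
  | (r, t) :: W, hW => by
    have hr : r < chevF4.nroots := hW (r, t) (List.mem_cons_self ..)
    obtain ⟨-, e, he⟩ := nElt_acts (coreF4 K) w
    obtain ⟨h1, -, h2⟩ := he ⟨r, hr⟩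
    rw [List.map_cons, ChevCore.wordGL_cons, ChevCore.wordGL_cons,
      ← nElt_conj_word w W (fun p hp => hW p (List.mem_cons_of_mem _ hp)),
      ← show ((((coreF4 K).hR.wordPerm w) ⟨r, hr⟩ : Fin chevF4.nroots) : ℕ) = coxApply chevF4 w r
        from coxApply_eq _ w ⟨r, hr⟩]
    have h3 : nElt (coreF4 K) w * (coreF4 K).xGL r t * (nElt (coreF4 K) w)⁻¹ =
        (coreF4 K).xGL (((coreF4 K).hR.wordPerm w) ⟨r, hr⟩ : Fin chevF4.nroots) t := by
      rw [h2]
      rcases h1 with h | h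
      · simp [show e r = 1 from h]
      · simp [show e r = -1 from h, CharTwo.neg_eq]
    rw [← h3]
    group

/-- The element of the class of type B₂ with parameters `t, u`. -/
noncomputable def classX (θ : ℕ) (t u : K) : GL chevF4.Idx K :=
  (coreF4 K).wordGL (b2ClassWord θ 27 25 28 30 t u)

omit [CharP K 2] in
theorem classX_zero {θ : ℕ} (hθ : 0 < θ) : classX (K := K) θ 0 0 = 1 := by
  simp [classX, b2ClassWord, ChevCore.wordGL_cons, ChevCore.wordGL_nil, (coreF4 K).xGL_zero,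
    zero_pow hθ.ne', zero_pow (show 2 * θ ≠ 0 by omega)]

theorem classX_mul {m : ℕ} (hq : ∀ x : K, x ^ (2 * (2 ^ m * 2 ^ m)) = x) (t u s v : K) :
    classX (2 ^ m) t u * classX (2 ^ m) s v =
      classX (2 ^ m) (t + s) (u + v + t ^ 2 ^ m * s) := by
  obtain ⟨-, -, -, -, -, hmm, hbm⟩ := f4_comm
  obtain ⟨d1, d2, d3, d4, d5⟩ := f4_class_comm
  set C := coreF4 K
  have hsub : ∀ {a b : ℕ}, a ∈ [28, 30] → b ∈ [28, 30] → ∀ x y : K,
      Commute (C.xGL a x) (C.xGL b y) := fun ha hb x y => commute_xGL_of_commList C hmm ha hb x y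
  have hb : ∀ {b : ℕ}, b ∈ [28, 30] → ∀ x y : K, Commute (C.xGL 25 x) (C.xGL b y) :=
    fun hb x y => commute_xGL_of_commList C hbm (by simp) hb x y
  have hswap : ∀ A B : K, C.xGL 25 B * C.xGL 27 A =
      C.xGL 27 A * C.xGL 25 B * (C.xGL 28 (A * B) * C.xGL 30 (A ^ 2 * B)) := by
    intro A B
    rw [C.xGL_comm d1 d2 d3 d4 A B]
    congr 1
    simp [ChevalleyDatum.commWord, d5, ChevCore.wordGL_cons, ChevCore.wordGL_nil, CharTwo.neg_eq]
  simp only [classX, b2ClassWord, ChevCore.wordGL_cons, ChevCore.wordGL_nil, mul_one]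
  set T := t ^ 2 ^ m with hT
  set S := s ^ 2 ^ m with hS
  have h1 : ∀ x y : K, Commute (C.xGL 28 x * C.xGL 30 y) (C.xGL 25 s) := fun x y =>
    (Commute.mul_right (hb (by simp) s x) (hb (by simp) s y)).symm
  have e28 : (t + s) ^ (2 ^ m + 1) + (u + v + T * s) =
      S * t + (t ^ (2 ^ m + 1) + u) + (s ^ (2 ^ m + 1) + v) := by
    rw [pow_succ, add_pow_char_pow, ← hT, ← hS, pow_succ, ← hT, pow_succ, ← hS]
    linear_combination T * s * CharTwo.two_eq_zero (R := K)
  have e30 : (u + v + T * s) ^ (2 * 2 ^ m) = S ^ 2 * t + u ^ (2 * 2 ^ m) + v ^ (2 * 2 ^ m) := by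
    rw [← pow_succ', add_pow_char_pow, add_pow_char_pow, mul_pow, hT, hS, ← pow_mul, ← pow_mul,
      show 2 ^ m * 2 ^ (m + 1) = 2 * (2 ^ m * 2 ^ m) by ring, hq,
      show 2 ^ m * 2 = 2 ^ (m + 1) by ring]
    ring
  rw [e28, e30, add_pow_char_pow, ← hT, ← hS]
  rw [C.xGL_add 27 T S, C.xGL_add 25 t s]
  rw [C.xGL_add 28 (S * t + (t ^ (2 ^ m + 1) + u)) (s ^ (2 ^ m + 1) + v),
    C.xGL_add 28 (S * t) (t ^ (2 ^ m + 1) + u),
    C.xGL_add 30 (S ^ 2 * t + u ^ (2 * 2 ^ m)) (v ^ (2 * 2 ^ m)),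
    C.xGL_add 30 (S ^ 2 * t) (u ^ (2 * 2 ^ m))]
  set A := C.xGL 27 T; set A' := C.xGL 27 S
  set B := C.xGL 25 t; set B' := C.xGL 25 s
  set c := C.xGL 28 (t ^ (2 ^ m + 1) + u)
  set d := C.xGL 30 (u ^ (2 * 2 ^ m))
  set c' := C.xGL 28 (s ^ (2 ^ m + 1) + v)
  set d' := C.xGL 30 (v ^ (2 * 2 ^ m))
  set p := C.xGL 28 (S * t)
  set r := C.xGL 30 (S ^ 2 * t)
  have ha : ∀ {b : ℕ}, b ∈ [28, 30] → ∀ x y : K, Commute (C.xGL 27 x) (C.xGL b y) := by
    intro b hb' x y
    have h : ∀ b ∈ [28, 30], 27 < chevF4.nroots ∧ b < chevF4.nroots ∧ b ≠ 27 ∧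
        b ≠ chevF4.neg 27 ∧ ∀ c ∈ chevF4.commTerms 27 b, c.2.1 % 2 = 0 := by decide +kernel
    obtain ⟨a1, a2, a3, a4, a5⟩ := h b hb'
    have h5 := C.xGL_comm a1 a2 a3 a4 x y
    rw [show C.wordGL (chevF4.commWord K 27 b x y) = 1 from ?_, mul_one] at h5
    · exact h5.symm
    · refine List.prod_eq_one fun z hz => ?_
      simp only [ChevalleyDatum.commWord, List.map_map, List.mem_map, Function.comp] at hz
      obtain ⟨w, hw, rfl⟩ := hz
      rw [(CharP.intCast_eq_zero_iff K 2 _).2 (Int.dvd_of_emod_eq_zero (by exact_mod_cast a5 w hw)),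
        zero_mul, zero_mul, C.xGL_zero]
  have cA : Commute (c * d) A' :=
    (Commute.mul_right (ha (by simp) _ _) (ha (by simp) _ _)).symm
  have cB : Commute (c * d) B' := h1 _ _
  have pB : Commute (p * r) B' := h1 _ _
  have cpr : Commute (c * d) (p * r) :=
    ((hsub (by simp) (by simp) _ _).mul_right (hsub (by simp) (by simp) _ _)).mul_left
      ((hsub (by simp) (by simp) _ _).mul_right (hsub (by simp) (by simp) _ _))
  calc A * (B * (c * d)) * (A' * (B' * (c' * d')))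
      = A * B * (c * d * A') * B' * (c' * d') := by simp only [mul_assoc]
    _ = A * (B * A') * (c * d * B') * (c' * d') := by rw [cA.eq]; simp only [mul_assoc]
    _ = A * A' * B * (p * r * B') * (c * d) * (c' * d') := by
        rw [cB.eq, hswap]; simp only [mul_assoc]; rfl
    _ = A * A' * (B * B') * ((p * r) * (c * d) * (c' * d')) := by
        rw [pB.eq]; simp only [mul_assoc]
    _ = A * A' * (B * B') * (p * c * (r * d) * (c' * d')) := by
        rw [Commute.mul_mul_mul_comm (a := p) (b := r) (c := c) (hsub (by simp) (by simp) _ _) d]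
    _ = _ := by
        rw [Commute.mul_mul_mul_comm (a := p * c) (b := r * d) (c := c')
          (Commute.mul_left (hsub (by simp) (by simp) _ _) (hsub (by simp) (by simp) _ _)) d']
        simp only [mul_assoc]

omit [CharP K 2] in
theorem classX_scale {θ : ℕ} {m : ℕ} (hθ : θ = 2 ^ m) (hq : ∀ x : K, x ^ (2 * (2 ^ m * 2 ^ m)) = x)
    {h : GL chevF4.Idx K} {χ : K}
    (h27 : ∀ x : K, h * (coreF4 K).xGL 27 x * h⁻¹ = (coreF4 K).xGL 27 (χ ^ θ * x))
    (h25 : ∀ x : K, h * (coreF4 K).xGL 25 x * h⁻¹ = (coreF4 K).xGL 25 (χ * x))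
    (h28 : ∀ x : K, h * (coreF4 K).xGL 28 x * h⁻¹ = (coreF4 K).xGL 28 (χ ^ (θ + 1) * x))
    (h30 : ∀ x : K, h * (coreF4 K).xGL 30 x * h⁻¹ = (coreF4 K).xGL 30 (χ ^ (2 * θ + 1) * x))
    (t u : K) : h * classX θ t u * h⁻¹ = classX θ (χ * t) (χ ^ (θ + 1) * u) := by
  subst hθ
  have e : (χ ^ (2 ^ m + 1) * u) ^ (2 * 2 ^ m) = χ ^ (2 * 2 ^ m + 1) * u ^ (2 * 2 ^ m) := by
    rw [mul_pow, ← pow_mul,
      show (2 ^ m + 1) * (2 * 2 ^ m) = 2 * (2 ^ m * 2 ^ m) + 2 * 2 ^ m by ring, pow_add, hq,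
      ← pow_succ']
  simp only [classX, b2ClassWord, ChevCore.wordGL_cons, ChevCore.wordGL_nil, mul_one]
  rw [e, mul_pow, mul_pow χ t (2 ^ m + 1), ← mul_add, ← h27, ← h25, ← h28, ← h30]
  group

omit [CharP K 2] in
theorem classX_mem (θ : ℕ) (t u : K) : classX θ t u ∈ twistedF4 K θ :=
  Subgroup.subset_closure ⟨b2ClassWord θ f4a f4b f4ab f4aab t u, Or.inr ⟨t, u, Or.inl rfl⟩,
    (coreF4 K).coe_wordGL _⟩

/-- Two generators of a large Ree group. -/
theorem two_generated_twistedF4 [Fintype K] {m : ℕ} (hm : 1 ≤ m)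
    (hn : Fintype.card K = 2 * (2 ^ m * 2 ^ m)) :
    ∃ a b : ↥(twistedF4 K (2 ^ m)), Subgroup.closure ({a, b} : Set ↥(twistedF4 K (2 ^ m))) = ⊤ := by
  classical
  obtain ⟨θ, hθdef⟩ : ∃ θ, θ = 2 ^ m := ⟨_, rfl⟩
  rw [← hθdef] at hn ⊢
  have hθ : 2 ≤ θ := hθdef ▸ Nat.le_self_pow (by omega) 2
  have hadd : ∀ t u : K, (t + u) ^ θ = t ^ θ + u ^ θ := fun t u => by
    rw [hθdef]; exact add_pow_char_pow t u 2 m
  have hneg : (-1 : K) ^ θ = -1 := by rw [CharTwo.neg_eq, one_pow]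
  have hqK : ∀ x : K, x ^ (2 * (θ * θ)) = x := fun x => by rw [← hn]; exact FiniteField.pow_card x
  obtain ⟨g, hg⟩ := IsCyclic.exists_generator (α := Kˣ)
  have hord : orderOf g = 2 * (θ * θ) - 1 := by
    rw [orderOf_eq_card_of_forall_mem_zpowers hg, Nat.card_units, Nat.card_eq_fintype_card, hn]
  have hbig : 2 * (2 * θ) ≤ 2 * (θ * θ) := by nlinarith
  have hgq : g ^ (2 * (θ * θ)) = g :=
    Units.ext (by rw [Units.val_pow_eq_pow_val]; exact hqK (g : K))
  set C := coreF4 K with hC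
  obtain ⟨mt, mP, mB, mpre, hlt⟩ := f4_maps
  obtain ⟨s0, s1, s2, s3, nP, n27, n25⟩ := f4_roots
  obtain ⟨cP, cN, cY, cn, cn'⟩ := (⟨f4_comm.1, f4_comm.2.1, f4_comm.2.2.1, f4_comm.2.2.2.1,
    f4_comm.2.2.2.2.1⟩ : _ ∧ _ ∧ _ ∧ _ ∧ _)
  set G1 := twistedF4 K θ with hG1
  have hP : ∀ t, twX C θ [24, 33] t ∈ G1 := f4_mem_pair θ (fun a ha b hb => cP a (by
    simp only [List.mem_singleton] at ha; simp [ha]) b (by
    simp only [List.mem_singleton] at hb; simp [hb])) (by decide)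
  have hnP : ∀ t, twX C θ ([24, 33].map chevF4.neg) t ∈ G1 := by
    rw [nP]; exact f4_mem_pair θ cN (by decide)
  have htN : ∀ t, twN C θ [24, 33] t ∈ G1 := fun t =>
    twN_mem C hneg (by decide) cn (hP _) (hnP _)
  -- the representatives
  have hnG : nElt C wF4 ∈ G1 := by
    have h := CfsgLib.SmallRee.wordMat_eq_of_checkMod (D := chevF4) (F := K) (p := 2)
      CfsgLib.Chev.F4.cert.hv f4_nB
    rw [← C.coe_wordGL, ← C.coe_wordGL] at h
    have h2 := Units.ext h
    have e1 : nElt C wF4 = twN C θ [24, 33] 1 * C.wordGL ((oneLetters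
        [27, 20, 27, 25, 22, 25, 27, 20, 27, 25, 22, 25]).map fun L => (L.r, (L.c : K))) := by
      have hcom : C.nGL 33 (1 : K) * C.nGL 24 1 = C.nGL 24 1 * C.nGL 33 1 :=
        (commute_nGL C cn' 1 1).eq
      have hw : nElt C wF4 = C.nGL 33 1 * C.nGL 24 1 *
          (C.nGL 27 1 * (C.nGL 25 1 * (C.nGL 27 1 * C.nGL 25 1))) := by
        simp [nElt, wF4, ChevCore.nS, s0, s1, s2, s3, mul_assoc]
      rw [hw, hcom]
      simp [twN, oneLetters, ChevCore.nGL, ChevalleyDatum.nWord, ChevCore.wordGL, n27, n25,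
        CharTwo.neg_eq, mul_assoc]
    rw [e1, h2]
    refine mul_mem (htN 1) ?_
    have e2 : C.wordGL ((oneLetters [27, 25, 28, 19, 17, 27, 25, 30]).map fun L => (L.r, (L.c : K))) =
        C.wordGL (b2ClassWord θ f4a f4b f4ab f4aab 1 0) *
          C.wordGL (b2ClassWord θ f4ma f4mb f4mab f4maab 0 1) *
          C.wordGL (b2ClassWord θ f4a f4b f4ab f4aab 1 1) := by
      simp [oneLetters, b2ClassWord, ChevCore.wordGL_cons, ChevCore.wordGL_nil, C.xGL_zero,
        zero_pow (show θ ≠ 0 by omega), zero_pow (show 2 * θ ≠ 0 by omega), CharTwo.add_self_eq_zero, mul_assoc, f4a, f4b, f4ab, f4aab,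
        f4ma, f4mb, f4mab, f4maab]
    rw [e2]
    refine mul_mem (mul_mem ?_ ?_) ?_
    · exact Subgroup.subset_closure ⟨_, Or.inr ⟨1, 0, Or.inl rfl⟩, C.coe_wordGL _⟩
    · exact Subgroup.subset_closure ⟨_, Or.inr ⟨0, 1, Or.inr rfl⟩, C.coe_wordGL _⟩
    · exact Subgroup.subset_closure ⟨_, Or.inr ⟨1, 1, Or.inl rfl⟩, C.coe_wordGL _⟩
  -- the torus element
  set c : Fin chevF4.rank → Kˣ :=
    Pi.mulSingle ⟨3, by decide⟩ g * Pi.mulSingle ⟨0, by decide⟩ (g ^ θ) with hc
  have hχ : ∀ r, r < chevF4.nroots → ∀ i j : ℤ, chevF4.cartan 3 r = i → chevF4.cartan 0 r = j →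
      C.R.torusChar c (C.R.α r) = g ^ (i + θ * j) := by
    intro r hr i j hi hj
    rw [hc, C.R.torusChar_mul, C.R.torusChar_single _ _ hr, C.R.torusChar_single _ _ hr, hi, hj,
      ← zpow_natCast g θ, ← zpow_mul, zpow_add]
  have hscale : ∀ r, r < chevF4.nroots → ∀ i j : ℤ, chevF4.cartan 3 r = i →
      chevF4.cartan 0 r = j → ∀ x : K, C.R.torus c * C.xGL r x * (C.R.torus c)⁻¹ =
        C.xGL r (((g ^ (i + θ * j) : Kˣ) : K) * x) := by
    intro r hr i j hi hj x
    rw [← hχ r hr i j hi hj]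
    exact C.acts_torus c ⟨r, hr⟩ x
  have hch := f4_chars
  simp only [List.map_cons, List.map_nil, List.cons.injEq, Prod.mk.injEq, and_true] at hch
  obtain ⟨⟨a24, b24⟩, ⟨a33, b33⟩, ⟨a27, b27⟩, ⟨a25, b25⟩, ⟨a28, b28⟩, ⟨a30, b30⟩, ⟨a35, b35⟩,
    ⟨a31, b31⟩, ⟨a40, b40⟩, ⟨a46, b46⟩, ⟨a45, b45⟩, ⟨a39, b39⟩⟩ := hch
  set tor := C.R.torus c with htor
  have htorG : tor ∈ G1 := by
    have e1 : tor = twN C θ [24, 33] (g : K) * twN C θ [24, 33] (-1) := by
      rw [htor, hc, map_mul,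
        ← show C.hGL 24 (g : K) = C.R.torus (Pi.mulSingle ⟨3, by decide⟩ g) by
          rw [← s3]; exact C.hGL_simple ⟨3, by decide⟩ g,
        ← show C.hGL 33 ((g : K) ^ θ) = C.R.torus (Pi.mulSingle ⟨0, by decide⟩ (g ^ θ)) by
          rw [← s0, ← Units.val_pow_eq_pow_val]; exact C.hGL_simple ⟨0, by decide⟩ (g ^ θ),
        C.hGL_eq, C.hGL_eq]
      simp only [twN, mul_one, hneg]
      simp only [mul_assoc]
      congr 1
      rw [← mul_assoc, ← mul_assoc, (commute_nGL C cn' _ _).eq]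
    rw [e1]
    exact mul_mem (htN _) (htN _)
  -- the generators
  set n := nElt C wF4 with hn'
  set y := nElt C (coxWord 2 wF4) * twX C θ [24, 33] 1 * (nElt C (coxWord 2 wF4))⁻¹ with hy
  have hpowG : ∀ j, nElt C (coxWord j wF4) ∈ G1 := fun j => by
    rw [nElt_coxWord]; exact pow_mem hnG j
  have hmapsP : ∀ j, nElt C (coxWord j wF4) * twX C θ [24, 33] 1 * (nElt C (coxWord j wF4))⁻¹ =
      twX C θ ([24, 33].map (coxApply chevF4 (coxWord j wF4))) 1 := fun j => by
    rw [twX, nElt_conj_word _ _ (by simp [twWord]; decide)]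
    simp [twX, twWord]
    rfl
  have hy' : y = twX C θ [45, 39] 1 := by rw [hy, hmapsP, mt]
  have hyc : Commute tor y := by
    have hsc : TwScale C θ tor [45, 39] ((1 : Kˣ) : K) := twScale_torus C fun i hi => by
      match i, hi with
      | 0, _ => exact ⟨show 45 < chevF4.nroots by decide, by
          show C.R.torusChar c (C.R.α 45) = _
          rw [hχ 45 (by decide) 0 0 a45 b45, one_pow]; simp⟩
      | 1, _ => exact ⟨show 39 < chevF4.nroots by decide, by
          show C.R.torusChar c (C.R.α 39) = _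
          rw [hχ 39 (by decide) 0 0 a39 b39, one_pow]; simp⟩
    have h := twX_conj_scale C hsc (1 : K)
    rw [Units.val_one, one_mul, ← hy'] at h
    exact mul_inv_eq_iff_eq_mul.1 h
  have hy2 : y ^ 2 = 1 := by
    rw [hy', pow_two, ← twX_add C hadd cY, CharTwo.add_self_eq_zero, twX_zero C (by omega)]
  have hyG : y ∈ G1 := mul_mem (mul_mem (hpowG 2) (hP 1)) (inv_mem (hpowG 2))
  set x := classX θ (1 : K) 0 with hx
  refine ⟨⟨tor * y, mul_mem htorG hyG⟩, ⟨x * n, mul_mem (classX_mem θ 1 0) hnG⟩, ?_⟩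
  apply Subgroup.map_injective G1.subtype_injective
  rw [MonoidHom.map_closure, Set.image_pair, ← MonoidHom.range_eq_map, Subgroup.range_subtype]
  refine le_antisymm ((Subgroup.closure_le _).2 ?_) ?_
  · rintro z (rfl | rfl)
    exacts [mul_mem htorG hyG, mul_mem (classX_mem θ 1 0) hnG]
  show G1 ≤ Subgroup.closure {tor * y, x * n}
  set M := Subgroup.closure ({tor * y, x * n} : Set (GL chevF4.Idx K)) with hM
  have haM : tor * y ∈ M := Subgroup.subset_closure (Set.mem_insert _ _)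
  have hbM : x * n ∈ M := Subgroup.subset_closure (Set.mem_insert_of_mem _ rfl)
  have htorM : tor ∈ M := by
    have hodd : orderOf tor ∣ 2 * (θ * θ) - 1 := by
      refine orderOf_dvd_of_pow_eq_one ?_
      rw [htor, ← map_pow, show c ^ (2 * (θ * θ) - 1) = 1 from ?_, map_one]
      funext k
      exact Units.ext (by
        simpa [hn] using FiniteField.pow_card_sub_one_eq_one ((c k : K)) (Units.ne_zero _))
    have hcop : (2 : ℕ).Coprime (orderOf tor) := by
      refine Nat.Coprime.coprime_dvd_right hodd ((Nat.prime_two.coprime_iff_not_dvd).2 ?_)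
      omega
    obtain ⟨j, hj⟩ := exists_pow_eq_self_of_coprime hcop
    rw [← hj]
    refine pow_mem ?_ j
    have : (tor * y) ^ 2 = tor ^ 2 := by rw [hyc.mul_pow, hy2, mul_one]
    rw [← this]
    exact pow_mem haM 2
  have hyM : y ∈ M := (Subgroup.mul_mem_cancel_left M htorM).1 haM
  -- scalings on the class
  have hq2 : ∀ x : K, x ^ (2 * (2 ^ m * 2 ^ m)) = x := by rw [← hθdef]; exact hqK
  have hmul := classX_mul (K := K) (m := m) hq2
  rw [← hθdef] at hmul
  have htor' : ∀ t u : K, tor * classX θ t u * tor⁻¹ =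
      classX θ (((g ^ (-1 : ℤ) : Kˣ) : K) * t) (((g ^ (-1 : ℤ) : Kˣ) : K) ^ (θ + 1) * u) := by
    refine classX_scale hθdef hq2 ?_ ?_ ?_ ?_
    · intro z; rw [hscale 27 (by decide) 0 (-1) a27 b27, ← Units.val_pow_eq_pow_val]
      congr 3; rw [← zpow_natCast, ← zpow_mul]; congr 1; ring
    · intro z; rw [hscale 25 (by decide) (-1) 0 a25 b25]
      simp
      rfl
    · intro z; rw [hscale 28 (by decide) (-1) (-1) a28 b28, ← Units.val_pow_eq_pow_val]
      congr 3; rw [← zpow_natCast, ← zpow_mul]; congr 1; push_cast; ring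
    · intro z; rw [hscale 30 (by decide) (-1) (-2) a30 b30, ← Units.val_pow_eq_pow_val]
      congr 3; rw [← zpow_natCast, ← zpow_mul]; congr 1; push_cast; ring
  set κ : Kˣ := g ^ (1 - 2 * (θ : ℤ)) with hκdef
  set k := n * tor * n⁻¹ with hk
  have hq1 : ∀ z : ℤ, g ^ ((2 * (θ : ℤ) * θ - 1) * z) = 1 := fun z => by
    have h : g ^ (2 * (θ : ℤ) * θ - 1) = 1 := by
      rw [zpow_sub_one, mul_inv_eq_one, show (2 * (θ : ℤ) * θ) = ((2 * (θ * θ) : ℕ) : ℤ) by
        push_cast; ring, zpow_natCast, hgq]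
    rw [zpow_mul, h, one_zpow]
  have hexp : ∀ {i j : ℤ} (z : ℤ), i = (2 * (θ : ℤ) * θ - 1) * z + j → g ^ i = g ^ j := by
    intro i j z h
    rw [h, zpow_add, hq1, one_mul]
  have hk' : ∀ r (hr : r ∈ [35, 31, 40, 46]) (i j : ℤ), chevF4.cartan 3 r = i →
      chevF4.cartan 0 r = j → ∀ z : K,
      k * C.xGL (coxApply chevF4 wF4 r) z * k⁻¹ =
        C.xGL (coxApply chevF4 wF4 r) (((g ^ (i + θ * j) : Kˣ) : K) * z) := by
    intro r hr i j hi hj z
    have hr' : r < chevF4.nroots := hlt r (List.mem_append_right [24, 33, 27, 25, 28, 30]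
      (List.mem_append_left [45, 39] hr))
    have h3 : ∀ z, n * C.xGL r z * n⁻¹ = C.xGL (coxApply chevF4 wF4 r) z := fun z => by
      have := nElt_conj_word wF4 [(r, z)] (by simpa using hr')
      simpa [ChevCore.wordGL_cons, ChevCore.wordGL_nil] using this
    rw [← h3, hk, show n * tor * n⁻¹ * (n * C.xGL r z * n⁻¹) * (n * tor * n⁻¹)⁻¹ =
      n * (tor * C.xGL r z * tor⁻¹) * n⁻¹ by group, hscale r hr' i j hi hj, h3]
  simp only [List.map_cons, List.map_nil, List.cons.injEq, and_true] at mpre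
  obtain ⟨p35, p31, p40, p46⟩ := mpre
  have hkc : ∀ t u : K, k * classX θ t u * k⁻¹ = classX θ ((κ : K) * t) ((κ : K) ^ (θ + 1) * u) := by
    refine classX_scale hθdef hq2 ?_ ?_ ?_ ?_
    · intro z; rw [← p35, hk' 35 (by simp) (-1) 1 a35 b35, ← Units.val_pow_eq_pow_val, hκdef,
        ← zpow_natCast, ← zpow_mul, hexp (i := -1 + (θ : ℤ) * 1) (j := (1 - 2 * (θ : ℤ)) * (θ : ℤ)) 1 (by ring)]
    · intro z; rw [← p31, hk' 31 (by simp) 1 (-2) a31 b31, hκdef]
      congr 4; ring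
    · intro z; rw [← p40, hk' 40 (by simp) 0 (-1) a40 b40, ← Units.val_pow_eq_pow_val, hκdef,
        ← zpow_natCast, ← zpow_mul, Nat.cast_add, Nat.cast_one, hexp (i := 0 + (θ : ℤ) * -1) (j := (1 - 2 * (θ : ℤ)) * ((θ : ℤ) + 1)) 1 (by ring)]
    · intro z; rw [← p46, hk' 46 (by simp) (-1) 0 a46 b46, ← Units.val_pow_eq_pow_val, hκdef,
        ← zpow_natCast, ← zpow_mul, Nat.cast_add, Nat.cast_mul, Nat.cast_one, Nat.cast_ofNat, hexp (i := -1 + (θ : ℤ) * 0) (j := (1 - 2 * (θ : ℤ)) * (2 * (θ : ℤ) + 1)) 2 (by ring)]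
  have htk : tor * k = k * tor := by
    have h1 : k ∈ C.R.torus.range := by
      have h2 := C.mem_diagonal_of_moves_one (n := k) ?_ (?_ : C.Moves k 1)
      · rwa [C.diagonalSubgroup_eq] at h2
      · exact mul_mem (mul_mem (nElt_mem_monomial C wF4) (C.torus_mem_monomial c))
          (inv_mem (nElt_mem_monomial C wF4))
      · have h3 := ChevCore.Moves.mul C (ChevCore.Moves.mul C
          (ChevCore.Acts.moves C (nElt_acts C wF4)) (C.moves_torus c))
          (ChevCore.Acts.moves C (ChevCore.Acts.inv C (nElt_acts C wF4)))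
        simpa [hk, htor, hn'] using h3
    obtain ⟨d, hd⟩ := h1
    rw [← hd, htor, ← map_mul, ← map_mul, mul_comm]
  -- the leading parameters in `M`
  have hinv : ∀ t u : K, (classX θ t u)⁻¹ = classX θ t (u + t ^ θ * t) := fun t u =>
    inv_eq_of_mul_eq_one_right (by
      rw [hmul, CharTwo.add_self_eq_zero, show u + (u + t ^ θ * t) + t ^ θ * t = 0 by
        linear_combination (u + t ^ θ * t) * CharTwo.two_eq_zero (R := K), classX_zero (by omega)])
  let T : AddSubgroup K :=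
    { carrier := {t | ∃ u, classX θ t u ∈ M}
      add_mem' := fun {t t'} ⟨u, hu⟩ ⟨u', hu'⟩ => ⟨_, hmul t u t' u' ▸ mul_mem hu hu'⟩
      zero_mem' := ⟨0, by rw [classX_zero (by omega)]; exact one_mem _⟩
      neg_mem' := fun {t} h => by
        show ∃ u, classX θ (-t) u ∈ M
        rw [CharTwo.neg_eq]; exact h }
  set χ : K := ((g ^ (-1 : ℤ) : Kˣ) : K) with hχdef
  have hκ1 : (κ : K) ≠ 1 := fun h => by
    have h1 : g ^ (2 * θ - 1) = 1 := by
      rw [← inv_eq_one, ← zpow_natCast, ← zpow_neg, Nat.cast_sub (by omega), Nat.cast_mul,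
        Nat.cast_one, neg_sub]
      exact Units.ext h
    have h2 := Nat.le_of_dvd (by omega) (orderOf_dvd_of_pow_eq_one h1)
    omega
  have hχ1 : χ ≠ 1 := fun h => by
    have h1 : g ^ (-1 : ℤ) = 1 := Units.ext h
    rw [zpow_neg_one, inv_eq_one] at h1
    rw [h1, orderOf_one] at hord
    omega
  obtain ⟨c₀, hc₀, hc₀T⟩ : ∃ t, t ≠ 0 ∧ t ∈ T := by
    have h1 : x * k * x⁻¹ ∈ M := by
      rw [hk, show x * (n * tor * n⁻¹) * x⁻¹ = x * n * tor * (x * n)⁻¹ by group]
      exact mul_mem (mul_mem hbM htorM) (inv_mem hbM)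
    set z := x * (k * x⁻¹ * k⁻¹) with hz
    have h2 : tor * z * tor⁻¹ * z⁻¹ ∈ M := by
      have h3 : tor * z * tor⁻¹ * z⁻¹ = tor * (x * k * x⁻¹) * tor⁻¹ * (x * k * x⁻¹)⁻¹ := by
        rw [show x * k * x⁻¹ = z * k by rw [hz]; group,
          show tor * (z * k) * tor⁻¹ * (z * k)⁻¹ =
            tor * z * tor⁻¹ * ((tor * k) * tor⁻¹ * k⁻¹) * z⁻¹ by group, htk, mul_inv_cancel_right,
          mul_inv_cancel, mul_one]
      rw [h3]
      exact mul_mem (mul_mem (mul_mem htorM h1) (inv_mem htorM)) (inv_mem h1)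
    rw [hz, hx, hinv, hkc, hmul, htor', hinv, hmul] at h2
    refine ⟨χ * (1 + (κ : K) * 1) + (1 + (κ : K) * 1), ?_, _, h2⟩
    rw [show χ * (1 + (κ : K) * 1) + (1 + (κ : K) * 1) = (χ - 1) * ((κ : K) - 1) by
      linear_combination (χ + (κ : K)) * CharTwo.two_eq_zero (R := K)]
    exact mul_ne_zero (sub_ne_zero.2 hχ1) (sub_ne_zero.2 hκ1)
  have hTall : ∀ t, t ∈ T :=
    mem_of_stable hg (e := -1) (Or.inr (Or.inl rfl)) T hc₀T hc₀ fun t ⟨u, hu⟩ =>
      ⟨χ ^ (θ + 1) * u, by rw [← htor']; exact mul_mem (mul_mem htorM hu) (inv_mem htorM)⟩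
  -- the centre of the class
  have hU : ∀ u, classX θ 0 u ∈ M := by
    have hadd0 : ∀ u v, classX θ (0 : K) u * classX θ 0 v = classX θ 0 (u + v) := fun u v => by
      rw [hmul, zero_pow (by omega), zero_mul, add_zero, add_zero]
    let U : AddSubgroup K :=
      { carrier := {u | classX θ 0 u ∈ M}
        add_mem' := fun {u v} hu hv => by
          show classX θ 0 (u + v) ∈ M
          rw [← hadd0]; exact mul_mem hu hv
        zero_mem' := by show classX θ 0 0 ∈ M; rw [classX_zero (by omega)]; exact one_mem _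
        neg_mem' := fun {u} hu => by
          show classX θ 0 (-u) ∈ M
          rw [CharTwo.neg_eq]; exact hu }
    obtain ⟨u, hu⟩ := hTall 1
    have h1 : (1 : K) ∈ U := by
      show classX θ 0 1 ∈ M
      have h := mul_mem hu hu
      rwa [hmul, CharTwo.add_self_eq_zero, CharTwo.add_self_eq_zero, zero_add, one_pow, one_mul] at h
    intro v
    refine mem_of_stable hg (e := 1) (Or.inl rfl) U h1 one_ne_zero (fun c hc => ?_) v
    have hstep : ∀ (j : ℕ) c, c ∈ U → (χ ^ (θ + 1)) ^ j * c ∈ U := by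
      intro j
      induction j with
      | zero => intro c hc; simpa using hc
      | succ j ih =>
        intro c hc
        show classX θ 0 _ ∈ M
        have h := mul_mem (mul_mem htorM (ih c hc)) (inv_mem htorM)
        rw [htor', mul_zero] at h
        rwa [_root_.pow_succ', mul_assoc]
    have he : g ^ (1 : ℤ) = ((g ^ (-1 : ℤ)) ^ (θ + 1)) ^ (2 * θ - 2) := by
      rw [← zpow_natCast, ← zpow_natCast, ← zpow_mul, ← zpow_mul, Nat.cast_sub (by omega)]
      refine hexp 1 ?_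
      push_cast; ring
    have h := hstep (2 * θ - 2) c hc
    rwa [← Units.val_pow_eq_pow_val, ← Units.val_pow_eq_pow_val, ← he] at h
  have hB : ∀ t u, classX θ t u ∈ M := by
    intro t u
    obtain ⟨u', hu'⟩ := hTall t
    have h := mul_mem hu' (hU (u' + u))
    rwa [hmul, add_zero, mul_zero, add_zero,
      show u' + (u' + u) = u by linear_combination u' * CharTwo.two_eq_zero (R := K)] at h
  have hnM : n ∈ M := (Subgroup.mul_mem_cancel_left M (hB 1 0)).1 hbM
  have hpowM : ∀ j, nElt C (coxWord j wF4) ∈ M := fun j => by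
    rw [nElt_coxWord]; exact pow_mem hnM j
  -- the pair
  have hP1 : twX C θ [24, 33] (1 : K) ∈ M := by
    have h := mul_mem (mul_mem (inv_mem (hpowM 2)) hyM) (hpowM 2)
    rwa [hy, show (nElt C (coxWord 2 wF4))⁻¹ *
      (nElt C (coxWord 2 wF4) * twX C θ [24, 33] 1 * (nElt C (coxWord 2 wF4))⁻¹) *
        nElt C (coxWord 2 wF4) = twX C θ [24, 33] 1 by group] at h
  have hPall : ∀ t, twX C θ [24, 33] t ∈ M := by
    have hsc : TwScale C θ tor [24, 33] ((g ^ (2 : ℤ) : Kˣ) : K) := twScale_torus C fun i hi => by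
      match i, hi with
      | 0, _ => exact ⟨show 24 < chevF4.nroots by decide, by
          show C.R.torusChar c (C.R.α 24) = _
          rw [hχ 24 (by decide) 2 0 a24 b24, pow_zero, pow_one, mul_zero, add_zero]⟩
      | 1, _ => exact ⟨show 33 < chevF4.nroots by decide, by
          show C.R.torusChar c (C.R.α 33) = _
          rw [hχ 33 (by decide) 0 2 a33 b33, pow_one, ← zpow_natCast (g ^ (2 : ℤ)) θ, ← zpow_mul,
            zero_add, mul_comm]⟩
    let P : AddSubgroup K :=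
      { carrier := {t | twX C θ [24, 33] t ∈ M}
        add_mem' := fun {u v} hu hv => by
          show twX C θ [24, 33] (u + v) ∈ M
          rw [twX_add C hadd cP]; exact mul_mem hu hv
        zero_mem' := by show twX C θ [24, 33] 0 ∈ M; rw [twX_zero C (by omega)]; exact one_mem _
        neg_mem' := fun {u} hu => by
          show twX C θ [24, 33] (-u) ∈ M
          rw [CharTwo.neg_eq]; exact hu }
    intro t
    refine mem_of_stable hg (e := 2) (Or.inr (Or.inr (Or.inl rfl))) P hP1 one_ne_zero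
      (fun c hc => ?_) t
    show twX C θ [24, 33] _ ∈ M
    rw [← twX_conj_scale C hsc]
    exact mul_mem (mul_mem htorM hc) (inv_mem htorM)
  have hP' : ∀ t, twX C θ [23, 14] t ∈ M := fun t => by
    have h := mul_mem (mul_mem (hpowM 4) (hPall t)) (inv_mem (hpowM 4))
    rw [twX, nElt_conj_word _ _ (by simp [twWord]; decide)] at h
    simp only [List.map_cons, List.map_nil, List.cons.injEq, and_true] at mP
    simpa [twX, twWord, mP.1, mP.2] using h
  have hB' : ∀ t u, C.wordGL (b2ClassWord θ 20 22 19 17 t u) ∈ M := fun t u => by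
    have h := mul_mem (mul_mem (hpowM 4) (hB t u)) (inv_mem (hpowM 4))
    rw [classX, nElt_conj_word _ _ (by simp [b2ClassWord]; decide)] at h
    simp only [List.map_cons, List.map_nil, List.cons.injEq, and_true] at mB
    simpa [b2ClassWord, mB.1, mB.2.1, mB.2.2.1, mB.2.2.2] using h
  refine (Subgroup.closure_le _).2 ?_
  rintro z ⟨wd, hwd, hz⟩
  obtain rfl : z = C.wordGL wd := Units.ext (by rw [hz, C.coe_wordGL])
  rcases hwd with ⟨t, rfl | rfl⟩ | ⟨t, u, rfl | rfl⟩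
  · have h := hPall t
    rw [twX_cons, twX_single, (commute_xGL_of_commList C cP (by simp) (by simp) _ _).eq] at h
    simpa [f4PairWord, ChevCore.wordGL_cons, ChevCore.wordGL_nil, f4p1, f4p4] using h
  · have h := hP' t
    rw [twX_cons, twX_single, (commute_xGL_of_commList C cN (by simp) (by simp) _ _).eq] at h
    simpa [f4PairWord, ChevCore.wordGL_cons, ChevCore.wordGL_nil, f4m1, f4m4] using h
  · exact hB t u
  · exact hB' t u

end CfsgLib.ChevGen
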