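import Cfsg.Agent.Lib.ChevStr.RankOne
import Cfsg.Agent.Lib.ChevStr.Bruhat
import Cfsg.Agent.Lib.Chev.Comm
import Mathlib.FieldTheory.Finite.Basic
import Mathlib.RingTheory.IntegralDomain

/-!
Two generators of a Chevalley group over a finite field: a torus element times a root element and
a root element times a representative of a Coxeter element, with certificates for the spreading of
full root subgroups by the commutator formula.
-/

set_option autoImplicit false

namespace CfsgLib.ChevGen

open Cfsg.Lie CfsgLib.ChevStr CfsgLib.Chev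
open scoped MatrixGroups

/-- One certificate step: the root forced into the subgroup by the pair `(a, b)`. -/
def genStep (T : Data) (ok : ℤ → Bool) (known : List ℕ) (a b : ℕ) : Option ℕ :=
  bif Nat.blt a T.n && Nat.blt b T.n && !Nat.beq b a && !Nat.beq b (T.row a).neg &&
      known.contains a && known.contains b then
    match (T.commFast a b).filter fun c => !known.contains c.1 with
    | [(k, c, i, j)] => bif ok c && (Nat.beq i 1 || Nat.beq j 1) then some k else none
    | _ => none
  else none

/-- Run a certificate. -/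
def genRun (T : Data) (ok : ℤ → Bool) : List (ℕ × ℕ) → List ℕ → List ℕ
  | [], known => known
  | (a, b) :: rest, known =>
    match genStep T ok known a b with
    | some k => genRun T ok rest (k :: known)
    | none => known

/-- A product of fundamental reflections applied to a root index. -/
def coxApply (D : ChevalleyDatum) (w : List (Fin D.rank)) (r : ℕ) : ℕ :=
  w.foldr (fun i s => D.reflectRoot i.val s) r

/-- The first `k` iterates of a product of reflections. -/
def coxOrbit (D : ChevalleyDatum) (w : List (Fin D.rank)) : ℕ → ℕ → List ℕ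
  | 0, _ => []
  | k + 1, r => r :: coxOrbit D w k (coxApply D w r)

/-- The value on a root of the cocharacter `x h_i + y h_j`. -/
def cochar (D : ChevalleyDatum) (i j : Fin D.rank) (x y : ℤ) (s : ℕ) : ℤ :=
  x * D.cartan i.val s + y * D.cartan j.val s

variable {D : ChevalleyDatum} {F : Type*} [Field F] (C : ChevCore D F)

/-- The whole root subgroup of `r` lies in `M`. -/
def FullIn (M : Subgroup (GL D.Idx F)) (r : ℕ) : Prop := ∀ t, C.xGL r t ∈ M

theorem mem_of_prod {G α : Type*} [Group G] {M : Subgroup G} (f : α → G) (p : α → Bool) (a : α) :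
    ∀ l : List α, l.filter p = [a] → (∀ x ∈ l, p x = false → f x ∈ M) →
      (l.map f).prod ∈ M → f a ∈ M := by
  intro l
  induction l with
  | nil => intro h; simp at h
  | cons x l ih =>
    intro h hk hprod
    rw [List.map_cons, List.prod_cons] at hprod
    cases hx : p x
    · rw [List.filter_cons, hx] at h
      exact ih h (fun y hy => hk y (List.mem_cons_of_mem _ hy))
        ((Subgroup.mul_mem_cancel_left M (hk x (List.mem_cons_self ..) hx)).1 hprod)
    · rw [List.filter_cons, hx] at h
      simp only [if_true, List.cons.injEq] at h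
      obtain ⟨rfl, hl⟩ := h
      have htail : (l.map f).prod ∈ M := by
        refine M.list_prod_mem fun y hy => ?_
        obtain ⟨z, hz, rfl⟩ := List.mem_map.1 hy
        refine hk z (List.mem_cons_of_mem _ hz) ?_
        have := List.filter_eq_nil_iff.1 hl z hz
        simpa using this
      exact (Subgroup.mul_mem_cancel_right M htail).1 hprod

theorem genStep_sound {T : Data} (hv : T.Valid D) {ok : ℤ → Bool}
    (hok : ∀ c, ok c = true → (c : F) ≠ 0) {M : Subgroup (GL D.Idx F)} {known : List ℕ}
    (hk : ∀ k ∈ known, FullIn C M k) {a b k : ℕ} (h : genStep T ok known a b = some k) :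
    FullIn C M k := by
  unfold genStep at h
  cases hb : (Nat.blt a T.n && Nat.blt b T.n && !Nat.beq b a && !Nat.beq b (T.row a).neg &&
      known.contains a && known.contains b)
  · rw [hb] at h; simp at h
  rw [hb] at h
  simp only [Bool.and_eq_true, Nat.blt_eq, Bool.not_eq_true', Bool.eq_false_iff, ne_eq, Nat.beq_eq,
    List.contains_iff_mem] at hb
  obtain ⟨⟨⟨⟨⟨ha, hb'⟩, hne⟩, hneg⟩, hka⟩, hkb⟩ := hb
  simp only [cond_true] at h
  split at h
  swap
  · simp at h
  rename_i k' c i j heq
  cases hij : (ok c && (Nat.beq i 1 || Nat.beq j 1))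
  · rw [hij] at h; simp at h
  rw [hij] at h
  simp only [cond_true, Option.some.injEq] at h
  obtain rfl := h
  simp only [Bool.and_eq_true, Bool.or_eq_true, Nat.beq_eq] at hij
  obtain ⟨hc, hij⟩ := hij
  have hc0 : (c : F) ≠ 0 := hok c hc
  rw [hv.neg_eq a ha] at hneg
  have hword : ∀ t u : F, C.wordGL (D.commWord F a b t u) ∈ M := fun t u => by
    have h1 := C.xGL_comm (hv.hn ▸ ha) (hv.hn ▸ hb') hne hneg t u
    rw [show C.wordGL (D.commWord F a b t u) = (C.xGL a t * C.xGL b u)⁻¹ *
      (C.xGL b u * C.xGL a t) by rw [h1]; group]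
    exact mul_mem (inv_mem (mul_mem (hk a hka t) (hk b hkb u)))
      (mul_mem (hk b hkb u) (hk a hka t))
  have key : ∀ t u : F, C.xGL k' ((c : F) * (-t) ^ i * u ^ j) ∈ M := by
    intro t u
    have h1 := hword t u
    rw [ChevCore.wordGL, ChevalleyDatum.commWord, List.map_map, hv.commTerms_eq ha hb'] at h1
    exact mem_of_prod
      (fun q : ℕ × ℤ × ℕ × ℕ => C.xGL q.1 ((q.2.1 : F) * (-t) ^ q.2.2.1 * u ^ q.2.2.2))
      _ _ _ heq (fun x _ hx => hk x.1 (by simpa using hx) _) h1
  intro z
  rcases hij with rfl | rfl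
  · have h1 := key (-(z / (c : F))) 1
    rwa [neg_neg, pow_one, one_pow, mul_one, mul_div_cancel₀ _ hc0] at h1
  · have h1 := key (-1) (z / (c : F))
    rwa [neg_neg, one_pow, mul_one, pow_one, mul_div_cancel₀ _ hc0] at h1

theorem genRun_sound {T : Data} (hv : T.Valid D) {ok : ℤ → Bool}
    (hok : ∀ c, ok c = true → (c : F) ≠ 0) {M : Subgroup (GL D.Idx F)} :
    ∀ (cert : List (ℕ × ℕ)) (known : List ℕ), (∀ k ∈ known, FullIn C M k) →
      ∀ k ∈ genRun T ok cert known, FullIn C M k
  | [], _, hk => hk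
  | (a, b) :: rest, known, hk => by
    unfold genRun
    split
    · rename_i k' h
      refine genRun_sound hv hok rest _ fun k hm => ?_
      rcases List.mem_cons.1 hm with rfl | hm
      exacts [genStep_sound C hv hok hk h, hk k hm]
    · exact hk

theorem coxApply_eq (w : List (Fin D.rank)) (r : Fin D.nroots) :
    ((C.hR.wordPerm w) r : ℕ) = coxApply D w r.val := by
  induction w with
  | nil => simp [ReflData.wordPerm, coxApply]
  | cons i w ih =>
    rw [show C.hR.wordPerm (i :: w) = C.hR.sPerm i * C.hR.wordPerm w by simp [ReflData.wordPerm],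
      Equiv.Perm.mul_apply, ReflData.sPerm_val, ih]
    rfl

theorem xGL_mem_of_acts {M : Subgroup (GL D.Idx F)} {n : GL D.Idx F} (hn : n ∈ M)
    {v : Equiv.Perm (Fin D.nroots)} (hv : C.Acts n v) {s : Fin D.nroots}
    (hs : C.xGL s 1 ∈ M) : C.xGL (v s) 1 ∈ M := by
  obtain ⟨-, e, he⟩ := hv
  obtain ⟨h1, -, h2⟩ := he s
  have h3 : C.xGL (v s) ((e s : F) * 1) ∈ M := by
    rw [← h2]; exact mul_mem (mul_mem hn hs) (inv_mem hn)
  rcases h1 with h | h
  · simpa [h] using h3
  · have h4 := inv_mem h3
    rw [C.xGL_inv] at h4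
    simpa [h] using h4

theorem fullIn_of_acts {M : Subgroup (GL D.Idx F)} {n : GL D.Idx F} (hn : n ∈ M)
    {v : Equiv.Perm (Fin D.nroots)} (hv : C.Acts n v) {s : Fin D.nroots}
    (hs : FullIn C M s) : FullIn C M (v s) := by
  intro t
  obtain ⟨-, e, he⟩ := hv
  obtain ⟨h1, -, h2⟩ := he s
  have h3 : C.xGL (v s) ((e s : F) * ((e s : F) * t)) ∈ M := by
    rw [← h2]; exact mul_mem (mul_mem hn (hs _)) (inv_mem hn)
  rcases h1 with h | h <;> simpa [h] using h3

theorem fullIn_orbit {M : Subgroup (GL D.Idx F)} {n : GL D.Idx F} (hn : n ∈ M)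
    {w : List (Fin D.rank)} (hv : C.Acts n (C.hR.wordPerm w)) :
    ∀ (k r : ℕ), r < D.nroots → FullIn C M r → ∀ s ∈ coxOrbit D w k r, FullIn C M s
  | 0, _, _, _, s, hs => by simp [coxOrbit] at hs
  | k + 1, r, hr, hM, s, hs => by
    rw [coxOrbit] at hs
    rcases List.mem_cons.1 hs with rfl | hs
    · exact hM
    · refine fullIn_orbit hn hv k (coxApply D w r) ?_ ?_ s hs
      · rw [← coxApply_eq C w ⟨r, hr⟩]; exact Fin.isLt _
      · rw [← coxApply_eq C w ⟨r, hr⟩]; exact fullIn_of_acts C hn hv hM

theorem one_mem_iterate {M : Subgroup (GL D.Idx F)} {n : GL D.Idx F} (hn : n ∈ M)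
    {w : List (Fin D.rank)} (hv : C.Acts n (C.hR.wordPerm w)) :
    ∀ (k r : ℕ), r < D.nroots → C.xGL r 1 ∈ M → ∀ s ∈ coxOrbit D w k r, C.xGL s 1 ∈ M
  | 0, _, _, _, s, hs => by simp [coxOrbit] at hs
  | k + 1, r, hr, hM, s, hs => by
    rw [coxOrbit] at hs
    rcases List.mem_cons.1 hs with rfl | hs
    · exact hM
    · refine one_mem_iterate hn hv k (coxApply D w r) ?_ ?_ s hs
      · rw [← coxApply_eq C w ⟨r, hr⟩]; exact Fin.isLt _
      · rw [← coxApply_eq C w ⟨r, hr⟩]; exact xGL_mem_of_acts C hn hv hM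

theorem exists_acts_mem_monomial (w : List (Fin D.rank)) :
    ∃ n ∈ D.monomialSubgroup F, C.Acts n (C.hR.wordPerm w) := by
  induction w with
  | nil => exact ⟨1, one_mem _, C.acts_one⟩
  | cons i w ih =>
    obtain ⟨n, hn, hv⟩ := ih
    refine ⟨C.nS i * n, mul_mem (C.nS_mem_monomial i) hn, ?_⟩
    rw [show C.hR.wordPerm (i :: w) = C.hR.sPerm i * C.hR.wordPerm w by simp [ReflData.wordPerm]]
    exact ChevCore.Acts.mul C (C.acts_nS i) hv

/-- The subgroup generated by two elements is the group when it contains every root subgroup. -/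
theorem two_generated (a b : GL D.Idx F) (ha : a ∈ D.group F) (hb : b ∈ D.group F)
    (h : ∀ r < D.nroots, FullIn C (Subgroup.closure {a, b}) r) :
    ∃ a b : ↥(D.group F), Subgroup.closure ({a, b} : Set ↥(D.group F)) = ⊤ := by
  refine ⟨⟨a, ha⟩, ⟨b, hb⟩, ?_⟩
  apply Subgroup.map_injective (D.group F).subtype_injective
  rw [MonoidHom.map_closure, Set.image_pair, ← MonoidHom.range_eq_map, Subgroup.range_subtype]
  refine le_antisymm ((Subgroup.closure_le _).2 ?_) (C.group_le fun r t hr => h r hr t)
  rintro x (rfl | rfl)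
  exacts [ha, hb]

/-- An additive subgroup of a finite field stable under `ζ ^ e`, `|e| ≤ 2`, is `0` or everything. -/
theorem mem_of_stable [Fintype F] {g : Fˣ} (hg : ∀ x : Fˣ, x ∈ Subgroup.zpowers g) {e : ℤ}
    (he : e = 1 ∨ e = -1 ∨ e = 2 ∨ e = -2) (A : AddSubgroup F) {c₀ : F} (hc₀ : c₀ ∈ A)
    (hne : c₀ ≠ 0) (hstab : ∀ c ∈ A, ((g ^ e : Fˣ) : F) * c ∈ A) (x : F) : x ∈ A := by
  classical
  set α : Fˣ := g ^ e with hα
  let T : AddSubgroup F :=
    { carrier := {y | ∀ c ∈ A, y * c ∈ A}
      add_mem' := fun {y z} hy hz c hc => by rw [add_mul]; exact A.add_mem (hy c hc) (hz c hc)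
      zero_mem' := fun c _ => by rw [zero_mul]; exact A.zero_mem
      neg_mem' := fun {y} hy c hc => by rw [neg_mul]; exact A.neg_mem (hy c hc) }
  have hpow : ∀ k : ℕ, ((α ^ k : Fˣ) : F) ∈ T := by
    intro k
    induction k with
    | zero => intro c hc; simpa using hc
    | succ k ih =>
      intro c hc
      rw [_root_.pow_succ, Units.val_mul, mul_assoc]
      exact ih _ (hstab c hc)
  have hord : orderOf g = Fintype.card F - 1 := by
    rw [orderOf_eq_card_of_forall_mem_zpowers hg, Nat.card_units, Nat.card_eq_fintype_card]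
  have hcardα : Fintype.card F - 1 ≤ 2 * orderOf α := by
    have h1 : (g ^ e) ^ orderOf α = 1 := by rw [← hα]; exact pow_orderOf_eq_one α
    have h2 : g ^ (2 * orderOf α) = 1 := by
      rw [← zpow_natCast (g ^ e), ← zpow_mul] at h1
      rw [← zpow_natCast, Nat.cast_mul, Nat.cast_ofNat]
      rcases he with rfl | rfl | rfl | rfl
      · rw [one_mul] at h1
        rw [two_mul, zpow_add, h1, one_mul]
      · rw [neg_one_mul, zpow_neg, inv_eq_one] at h1
        rw [two_mul, zpow_add, h1, one_mul]
      · exact h1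
      · rwa [neg_mul, zpow_neg, inv_eq_one] at h1
    have h3 := orderOf_dvd_of_pow_eq_one h2
    rw [hord] at h3
    exact Nat.le_of_dvd (Nat.mul_pos two_pos (orderOf_pos α)) h3
  have hTcard : orderOf α + 1 ≤ Nat.card T := by
    have hinj : Function.Injective
        (fun o : Option (Fin (orderOf α)) =>
          (o.elim ⟨0, T.zero_mem⟩ fun k => ⟨_, hpow k.val⟩ : T)) := by
      rintro (_ | a) (_ | b) h <;> simp only [Option.elim, Subtype.mk.injEq] at h
      · rfl
      · exact absurd h.symm (Units.ne_zero _)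
      · exact absurd h (Units.ne_zero _)
      · refine congrArg some (Fin.ext ?_)
        exact pow_injOn_Iio_orderOf a.isLt b.isLt (Units.ext h)
    have := Nat.card_le_card_of_injective _ hinj
    simpa [Nat.card_eq_fintype_card] using this
  have hdvd := AddSubgroup.card_addSubgroup_dvd_card T
  have hq : 1 < Fintype.card F := Fintype.one_lt_card
  have htop : T = ⊤ := by
    refine AddSubgroup.eq_top_of_card_eq T ?_
    obtain ⟨m, hm⟩ := hdvd
    rw [Nat.card_eq_fintype_card (α := F)] at hm ⊢
    rcases Nat.lt_or_ge m 2 with hm2 | hm2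
    · rcases Nat.eq_zero_or_pos m with rfl | hm0
      · omega
      · have : m = 1 := by omega
        subst this; omega
    · have : 2 * Nat.card T ≤ Fintype.card F := by
        rw [hm, mul_comm]; exact Nat.mul_le_mul_left _ hm2
      omega
  have hx : x / c₀ ∈ T := by rw [htop]; exact AddSubgroup.mem_top _
  have := hx c₀ hc₀
  rwa [div_mul_cancel₀ _ hne] at this

/-- The conditions on the data of the generic generation scheme. -/
def genCheck (D : ChevalleyDatum) (T : Data) (w : List (Fin D.rank)) (i j : Fin D.rank) (x y : ℤ)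
    (r' t s : ℕ) (len : ℕ) (cert : List (ℕ × ℕ)) : Bool :=
  let r := coxApply D w r'
  Nat.blt r' D.nroots && Nat.blt t D.nroots &&
  decide (cochar D i j x y t = 0) &&
  (decide (cochar D i j x y r = 1) || decide (cochar D i j x y r = -1)) &&
  (decide (cochar D i j x y r' = 1) || decide (cochar D i j x y r' = -1)) &&
  (decide (cochar D i j x y s = 1) || decide (cochar D i j x y s = -1) ||
    decide (cochar D i j x y s = 2) || decide (cochar D i j x y s = -2)) &&
  (coxOrbit D w len t).contains s &&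
  let all := genRun T (fun c => decide (c = 1) || decide (c = -1)) cert
    (coxOrbit D w len r ++ coxOrbit D w len s)
  (List.range D.nroots).all fun k => all.contains k

/-- Two generators over a field with more than two elements. -/
theorem two_generated_of_genCheck (C : ChevCore D F) [Fintype F] (hF : 2 < Fintype.card F) {T : Data}
    (hv : T.Valid D) {w : List (Fin D.rank)} {i j : Fin D.rank} {x y : ℤ} {r' t s len : ℕ}
    {cert : List (ℕ × ℕ)} (h : genCheck D T w i j x y r' t s len cert = true) :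
    ∃ a b : ↥(D.group F), Subgroup.closure ({a, b} : Set ↥(D.group F)) = ⊤ := by
  classical
  simp only [genCheck, Bool.and_eq_true, Nat.blt_eq, Bool.or_eq_true, decide_eq_true_eq,
    List.contains_iff_mem, List.all_eq_true, List.mem_range] at h
  obtain ⟨⟨⟨⟨⟨⟨⟨hr', ht⟩, hχt⟩, hχr⟩, hχr'⟩, hχs⟩, hs⟩, hall⟩ := h
  obtain ⟨g, hg⟩ := IsCyclic.exists_generator (α := Fˣ)
  set c : Fin D.rank → Fˣ := Pi.mulSingle i (g ^ x) * Pi.mulSingle j (g ^ y) with hc
  have hχ : ∀ k (hk : k < D.nroots), C.R.torusChar c (C.R.α k) = g ^ cochar D i j x y k := by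
    intro k hk
    rw [hc, C.R.torusChar_mul, C.R.torusChar_single i _ hk, C.R.torusChar_single j _ hk,
      ← zpow_mul, ← zpow_mul, ← zpow_add]
    rfl
  set tor := C.R.torus c with htor
  obtain ⟨n, hnN, hact⟩ := exists_acts_mem_monomial C w
  have hn : n ∈ D.group F := C.monomial_le_group hnN
  set v := C.hR.wordPerm w with hvdef
  set R' : Fin D.nroots := ⟨r', hr'⟩
  set R : Fin D.nroots := v R' with hR
  have hRval : (R : ℕ) = coxApply D w r' := coxApply_eq C w R'
  rw [← hRval] at hχr hall
  have htorG : tor ∈ D.group F :=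
    C.monomial_le_group (C.torus_mem_monomial c)
  set a := tor * C.xGL t 1 with ha
  set b := C.xGL R 1 * n with hb
  refine two_generated C a b (mul_mem htorG (C.xGL_mem_group _ _))
    (mul_mem (C.xGL_mem_group _ _) hn) ?_
  set M := Subgroup.closure ({a, b} : Set (GL D.Idx F)) with hM
  have haM : a ∈ M := Subgroup.subset_closure (Set.mem_insert _ _)
  have hbM : b ∈ M := Subgroup.subset_closure (Set.mem_insert_of_mem _ rfl)
  -- separate the torus part of `a`
  obtain ⟨p, hpF⟩ := CharP.exists F
  haveI := hpF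
  have hp : p.Prime := (CharP.char_is_prime_or_zero F p).resolve_right (CharP.char_ne_zero_of_finite F p)
  have hcomm : Commute tor (C.xGL t 1) := by
    have h1 := C.acts_torus c ⟨t, ht⟩ (1 : F)
    rw [hχ t ht, hχt, zpow_zero, Units.val_one, one_mul] at h1
    exact mul_inv_eq_iff_eq_mul.1 h1
  have hxpow : ∀ k : ℕ, C.xGL t 1 ^ k = C.xGL t (k : F) := fun k => by
    induction k with
    | zero => simp [C.xGL_zero]
    | succ k ih => rw [_root_.pow_succ, ih, ← C.xGL_add, Nat.cast_succ]
  have htorM : tor ∈ M := by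
    have hord : orderOf tor ∣ Fintype.card F - 1 := by
      refine orderOf_dvd_of_pow_eq_one ?_
      rw [htor, ← map_pow, show c ^ (Fintype.card F - 1) = 1 from ?_, map_one]
      funext k
      exact Units.ext (by
        simpa using FiniteField.pow_card_sub_one_eq_one ((c k : F)) (Units.ne_zero _))
    have hcop : p.Coprime (orderOf tor) := by
      refine Nat.Coprime.coprime_dvd_right hord ((hp.coprime_iff_not_dvd).2 fun hd => ?_)
      obtain ⟨m, -, hm⟩ := FiniteField.card F p
      have h1 : p ∣ Fintype.card F := hm ▸ dvd_pow_self p m.ne_zero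
      have h2 := Nat.dvd_sub h1 hd
      rw [show Fintype.card F - (Fintype.card F - 1) = 1 by omega, Nat.dvd_one] at h2
      exact hp.one_lt.ne' h2
    obtain ⟨m, hm⟩ := exists_pow_eq_self_of_coprime hcop
    rw [← hm]
    refine pow_mem ?_ m
    have : a ^ p = tor ^ p := by
      rw [ha, hcomm.mul_pow, hxpow, CharP.cast_eq_zero F p, C.xGL_zero, mul_one]
    rw [← this]
    exact pow_mem haM p
  have htM : C.xGL t 1 ∈ M := (Subgroup.mul_mem_cancel_left M htorM).1 haM
  -- the root subgroup of `R`
  set κ : F := ((C.R.torusChar c (C.R.α r') : Fˣ) : F) with hκ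
  set χ : F := ((C.R.torusChar c (C.R.α R) : Fˣ) : F) with hχdef
  set k := n * tor * n⁻¹ with hk
  have hne : ∀ {e : ℤ}, e = 1 ∨ e = -1 → ((g ^ e : Fˣ) : F) ≠ 1 := by
    intro e he hcon
    have h1 : g ^ e = 1 := Units.ext hcon
    have h2 : g = 1 := by rcases he with rfl | rfl <;> simpa using h1
    have h3 : orderOf g = Fintype.card F - 1 := by
      rw [orderOf_eq_card_of_forall_mem_zpowers hg, Nat.card_units, Nat.card_eq_fintype_card]
    rw [h2, orderOf_one] at h3
    omega
  have hκne : κ ≠ 1 := by rw [hκ, hχ r' hr']; exact hne hχr'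
  have hχne : χ ≠ 1 := by rw [hχdef, hχ R R.isLt]; exact hne hχr
  have hkx : ∀ u : F, k * C.xGL R u * k⁻¹ = C.xGL R (κ * u) := by
    intro u
    obtain ⟨-, e, he⟩ := hact
    obtain ⟨h1, -, h2⟩ := he R'
    have h3 : C.xGL R u = n * C.xGL R' ((e R' : F) * u) * n⁻¹ := by
      rw [h2]; rcases h1 with h | h <;> simp [hR, h]
    rw [h3, hk, show n * tor * n⁻¹ * (n * C.xGL R' ((e R' : F) * u) * n⁻¹) * (n * tor * n⁻¹)⁻¹ =
      n * (tor * C.xGL R' ((e R' : F) * u) * tor⁻¹) * n⁻¹ by group, htor, C.acts_torus, h2, hκ]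
    congr 1
    rcases h1 with h | h <;> simp [h, R']
  have htk : tor * k = k * tor := by
    have h1 : k ∈ C.R.torus.range := by
      have h2 := C.mem_diagonal_of_moves_one
        (n := k) ?_ (?_ : C.Moves k 1)
      · rwa [C.diagonalSubgroup_eq] at h2
      · exact mul_mem (mul_mem hnN (C.torus_mem_monomial c)) (inv_mem hnN)
      · have h3 := ChevCore.Moves.mul C (ChevCore.Moves.mul C (ChevCore.Acts.moves C hact)
          (C.moves_torus c)) (ChevCore.Acts.moves C (ChevCore.Acts.inv C hact))
        simpa [hk, htor] using h3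
    obtain ⟨d, hd⟩ := h1
    rw [← hd, htor, ← map_mul, ← map_mul, mul_comm]
  have hc₀ : C.xGL R ((χ - 1) * (1 - κ)) ∈ M := by
    have h1 : C.xGL R (1 - κ) * k ∈ M := by
      have : C.xGL R (1 - κ) * k = b * tor * b⁻¹ := by
        rw [hb, show C.xGL R 1 * n * tor * (C.xGL R 1 * n)⁻¹ =
          C.xGL R 1 * (k * (C.xGL R 1)⁻¹ * k⁻¹) * k by rw [hk]; group, C.xGL_inv, hkx,
          ← C.xGL_add]
        congr 2; ring
      rw [this]; exact mul_mem (mul_mem hbM htorM) (inv_mem hbM)
    have h2 : tor * (C.xGL R (1 - κ) * k) * tor⁻¹ * (C.xGL R (1 - κ) * k)⁻¹ =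
        C.xGL R ((χ - 1) * (1 - κ)) := by
      rw [show tor * (C.xGL R (1 - κ) * k) * tor⁻¹ * (C.xGL R (1 - κ) * k)⁻¹ =
        (tor * C.xGL R (1 - κ) * tor⁻¹) * (tor * k * tor⁻¹ * k⁻¹) * (C.xGL R (1 - κ))⁻¹ by group,
        htk, mul_inv_cancel_right, mul_inv_cancel, mul_one, htor, C.acts_torus, C.xGL_inv,
        ← C.xGL_add, hχdef]
      congr 1; ring
    rw [← h2]
    exact mul_mem (mul_mem (mul_mem htorM h1) (inv_mem htorM)) (inv_mem h1)
  have hfull : ∀ (q : Fin D.nroots) {e : ℤ} (c₀ : F), (e = 1 ∨ e = -1 ∨ e = 2 ∨ e = -2) →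
      cochar D i j x y q = e → c₀ ≠ 0 → C.xGL q c₀ ∈ M → FullIn C M q := by
    intro q e c₀ he hq hc₀ hmem u
    let A : AddSubgroup F :=
      { carrier := {u | C.xGL q u ∈ M}
        add_mem' := fun {u v} hu hv => by
          show C.xGL q (u + v) ∈ M
          rw [C.xGL_add]; exact mul_mem hu hv
        zero_mem' := by show C.xGL q 0 ∈ M; rw [C.xGL_zero]; exact one_mem _
        neg_mem' := fun {u} hu => by
          show C.xGL q (-u) ∈ M
          rw [← C.xGL_inv]; exact inv_mem hu }
    refine mem_of_stable hg he A (c₀ := c₀) hmem hc₀ (fun u hu => ?_) u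
    show C.xGL q _ ∈ M
    rw [← hq, ← hχ q q.isLt, ← C.acts_torus, ← htor]
    exact mul_mem (mul_mem htorM hu) (inv_mem htorM)
  have hRfull : FullIn C M R :=
    hfull R (e := cochar D i j x y R) _ (hχr.elim Or.inl fun h => Or.inr (Or.inl h)) rfl
      (mul_ne_zero (sub_ne_zero.2 hχne) (sub_ne_zero.2 hκne.symm)) hc₀
  have hnM : n ∈ M := (Subgroup.mul_mem_cancel_left M (hRfull 1)).1 hbM
  have hs1 : C.xGL s 1 ∈ M := one_mem_iterate C hnM hact len t ht htM s hs
  have hsn : s < D.nroots := by
    by_contra hcon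
    have hlt : ∀ (k r : ℕ), r < D.nroots → ∀ q ∈ coxOrbit D w k r, q < D.nroots := by
      intro k
      induction k with
      | zero => intro r _ q hq; simp [coxOrbit] at hq
      | succ k ih =>
        intro r hr q hq
        rw [coxOrbit] at hq
        rcases List.mem_cons.1 hq with rfl | hq
        · exact hr
        · exact ih _ (by rw [← coxApply_eq C w ⟨r, hr⟩]; exact Fin.isLt _) q hq
    exact hcon (hlt len t ht s hs)
  have hSfull : FullIn C M s :=
    hfull ⟨s, hsn⟩ (e := cochar D i j x y s) 1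
      (by rcases hχs with ((h | h) | h) | h <;> simp [h]) rfl one_ne_zero hs1
  intro q hq
  refine genRun_sound C hv (fun z hz => ?_) cert _ (fun q hq' => ?_) q (hall q hq)
  · simp only [Bool.or_eq_true, decide_eq_true_eq] at hz
    rcases hz with rfl | rfl <;> simp
  · rcases List.mem_append.1 hq' with hq' | hq'
    · exact fullIn_orbit C hnM hact len R R.isLt hRfull q hq'
    · exact fullIn_orbit C hnM hact len s hsn hSfull q hq'

end CfsgLib.ChevGen
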