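import Cfsg.Agent.Lib.SmallRee.Bruhat
import Cfsg.Agent.Lib.ChevGen.TwoGen

/-!
Two generators of a small Ree group: a generator of the torus and an element of the unipotent
subgroup times the representative of the non-trivial element of the twisted Weyl group.
-/

set_option autoImplicit false

namespace CfsgLib.ChevGen

open Cfsg.Lie CfsgLib.ChevStr CfsgLib.Twisted CfsgLib.SmallRee
open scoped MatrixGroups

section uni

variable (K : Type*) [Field K] (m : ℕ)

/-- The leading factor `x_a(t^θ) x_b(t)`. -/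
noncomputable def lead (t : K) : GL chevG2.Idx K :=
  (coreG2 K).xGL g2a (t ^ 3 ^ m) * (coreG2 K).xGL g2b t

theorem lead_mem_pos (t : K) : lead K m t ∈ chevG2.posUnipotent K := by
  have h : chevG2.IsPosRoot g2a ∧ chevG2.IsPosRoot g2b := by decide +kernel
  exact mul_mem ((coreG2 K).xGL_mem_posUnipotent h.1 _) ((coreG2 K).xGL_mem_posUnipotent h.2 _)

theorem exists_uni_eq_lead (t u v : K) :
    ∃ z ∈ (coreG2 K).Ucl midSet, uni K m t u v = lead K m t * z :=
  ⟨(coreG2 K).wordGL [(g2ab, t ^ (3 ^ m + 1) + u ^ 3 ^ m), (g2aab, t ^ (2 * 3 ^ m + 1) + v ^ 3 ^ m),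
      (g2aaab, u), (g2aaabb, v)],
    (coreG2 K).wordGL_mem_Ucl (by simp [midSet, listSet]), by
    rw [uni_eq_top_mul]
    simp only [lead, ChevCore.wordGL_cons, ChevCore.wordGL_nil, mul_one]⟩

theorem top_le_mid : (coreG2 K).Ucl topSet ≤ (coreG2 K).Ucl midSet :=
  (coreG2 K).Ucl_mono (fun r hr => by
    simp only [topSet, midSet, listSet, List.mem_cons, List.not_mem_nil, or_false,
      Set.mem_ofPred_eq] at hr ⊢
    tauto)

variable [CharP K 3]

theorem conj_mid {x z : GL chevG2.Idx K} (hx : x ∈ chevG2.posUnipotent K)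
    (hz : z ∈ (coreG2 K).Ucl midSet) : ∃ τ ∈ (coreG2 K).Ucl topSet, x * z * x⁻¹ = z * τ := by
  refine ⟨_, mid_commutator K hx hz, ?_⟩
  rw [(mid_comm K hz (top_le_mid K (mid_commutator K hx hz))).eq, inv_mul_cancel_right]

/-- The main part of `x_b(B) x_a(A)` moved to the right. -/
noncomputable def leadComm (A B : K) : GL chevG2.Idx K :=
  (coreG2 K).wordGL [(g2ab, A * B), (g2aab, A ^ 2 * B), (g2aaab, -(A ^ 3 * B)),
    (g2aaabb, -(A ^ 3 * B ^ 2))]

omit [CharP K 3] in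
theorem leadComm_mem (A B : K) : leadComm K A B ∈ (coreG2 K).Ucl midSet :=
  (coreG2 K).wordGL_mem_Ucl (by simp [midSet, listSet])

omit [CharP K 3] in
theorem lead_swap (A B : K) :
    (coreG2 K).xGL g2b B * (coreG2 K).xGL g2a A =
      (coreG2 K).xGL g2a A * (coreG2 K).xGL g2b B * leadComm K A B := by
  have h : g2a < chevG2.nroots ∧ g2b < chevG2.nroots ∧ g2b ≠ g2a ∧ g2b ≠ chevG2.neg g2a ∧
      chevG2.commTerms g2a g2b = [(g2ab, -1, 1, 1), (g2aab, 1, 2, 1), (g2aaab, 1, 3, 1),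
        (g2aaabb, 1, 3, 2)] := by decide +kernel
  obtain ⟨a, b, c, d, e⟩ := h
  rw [(coreG2 K).xGL_comm a b c d A B, ChevalleyDatum.commWord, e]
  simp [leadComm, Odd.neg_pow (show Odd 3 by decide)]

theorem lead_mul (t s : K) : ∃ τ ∈ (coreG2 K).Ucl topSet,
    lead K m t * lead K m s = lead K m (t + s) * (leadComm K (s ^ 3 ^ m) t * τ) := by
  obtain ⟨τ, hτ, e⟩ := conj_mid K
    (inv_mem ((coreG2 K).xGL_mem_posUnipotent (by decide +kernel : chevG2.IsPosRoot g2b) s))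
    (leadComm_mem K (s ^ 3 ^ m) t)
  refine ⟨τ, hτ, ?_⟩
  rw [← e, inv_inv]
  simp only [lead]
  rw [show (coreG2 K).xGL g2a (t ^ 3 ^ m) * (coreG2 K).xGL g2b t *
      ((coreG2 K).xGL g2a (s ^ 3 ^ m) * (coreG2 K).xGL g2b s) =
      (coreG2 K).xGL g2a (t ^ 3 ^ m) *
        ((coreG2 K).xGL g2b t * (coreG2 K).xGL g2a (s ^ 3 ^ m)) * (coreG2 K).xGL g2b s by group,
    lead_swap, frob_add, (coreG2 K).xGL_add, (coreG2 K).xGL_add]
  group

theorem lead_mul_mid {z z' : GL chevG2.Idx K} (hz : z ∈ (coreG2 K).Ucl midSet)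
    (hz' : z' ∈ (coreG2 K).Ucl midSet) (t s : K) :
    ∃ τ ∈ (coreG2 K).Ucl topSet, lead K m t * z * (lead K m s * z') =
      lead K m (t + s) * (leadComm K (s ^ 3 ^ m) t * (z * z') * τ) := by
  obtain ⟨τ₁, hτ₁, e₁⟩ := lead_mul K m t s
  obtain ⟨τ₂, hτ₂, e₂⟩ := conj_mid K (inv_mem (lead_mem_pos K m s)) hz
  rw [inv_inv] at e₂
  refine ⟨τ₁ * τ₂, mul_mem hτ₁ hτ₂, ?_⟩
  have hm₁ := top_le_mid K hτ₁
  have hm₂ := top_le_mid K hτ₂
  calc lead K m t * z * (lead K m s * z')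
      = lead K m t * lead K m s * ((lead K m s)⁻¹ * z * lead K m s) * z' := by group
    _ = lead K m (t + s) * (leadComm K (s ^ 3 ^ m) t * (τ₁ * (z * (τ₂ * z')))) := by
        rw [e₁, e₂]; group
    _ = _ := by
        rw [(mid_comm K hm₂ hz').eq, ← mul_assoc z, ← mul_assoc τ₁,
          (mid_comm K hm₁ (mul_mem hz hz')).eq]
        simp only [mul_assoc]

omit [CharP K 3] in
theorem lead_zero : lead K m 0 = 1 := by
  simp [lead, (coreG2 K).xGL_zero, zero_pow (Nat.pow_pos (n := m) (show 0 < 3 by norm_num)).ne']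

theorem uni_zero_mul (u v : K) : uni K m 0 u v = uni K m 0 u 0 * uni K m 0 0 v := by
  have hpos : 0 < 3 ^ m := Nat.pow_pos (by norm_num)
  have hm : ∀ r ∈ [g2ab, g2aab, g2aaab, g2aaabb], ∀ x, (coreG2 K).xGL r x ∈
      (coreG2 K).Ucl midSet := fun r hr x => (coreG2 K).xGL_mem_Ucl hr x
  simp only [uni, reeWordU, ChevCore.wordGL_cons, ChevCore.wordGL_nil, (coreG2 K).xGL_zero,
    zero_pow hpos.ne', zero_pow (Nat.succ_ne_zero _), zero_add, one_mul, mul_one]
  rw [mul_assoc, ← mul_assoc ((coreG2 K).xGL g2aaab u) ((coreG2 K).xGL g2aab (v ^ 3 ^ m)),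
    (mid_comm K (hm _ (by simp) u) (hm _ (by simp) (v ^ 3 ^ m))).eq]
  simp only [mul_assoc]

theorem uni_top_add (v v' : K) : uni K m 0 0 (v + v') = uni K m 0 0 v * uni K m 0 0 v' := by
  have hpos : 0 < 3 ^ m := Nat.pow_pos (by norm_num)
  have hm : ∀ r ∈ [g2ab, g2aab, g2aaab, g2aaabb], ∀ x, (coreG2 K).xGL r x ∈
      (coreG2 K).Ucl midSet := fun r hr x => (coreG2 K).xGL_mem_Ucl hr x
  simp only [uni, reeWordU, ChevCore.wordGL_cons, ChevCore.wordGL_nil, (coreG2 K).xGL_zero,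
    zero_pow hpos.ne', zero_pow (Nat.succ_ne_zero _), zero_add, one_mul, mul_one, frob_add,
    (coreG2 K).xGL_add]
  exact (mid_comm K (hm _ (by simp) _) (hm _ (by simp) _)).mul_mul_mul_comm _ _

theorem uni_mid_add (u u' : K) : uni K m 0 (u + u') 0 = uni K m 0 u 0 * uni K m 0 u' 0 := by
  have hpos : 0 < 3 ^ m := Nat.pow_pos (by norm_num)
  have hm : ∀ r ∈ [g2ab, g2aab, g2aaab, g2aaabb], ∀ x, (coreG2 K).xGL r x ∈
      (coreG2 K).Ucl midSet := fun r hr x => (coreG2 K).xGL_mem_Ucl hr x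
  simp only [uni, reeWordU, ChevCore.wordGL_cons, ChevCore.wordGL_nil, (coreG2 K).xGL_zero,
    zero_pow hpos.ne', zero_pow (Nat.succ_ne_zero _), zero_add, one_mul, mul_one, frob_add,
    (coreG2 K).xGL_add]
  exact (mid_comm K (hm _ (by simp) _) (hm _ (by simp) _)).mul_mul_mul_comm _ _

end uni

variable {K : Type*} [Field K] [Fintype K] [CharP K 3] {m : ℕ}

omit [CharP K 3] [Fintype K] in
theorem mid_conj_tau (l : Kˣ) {z : GL chevG2.Idx K} (hz : z ∈ (coreG2 K).Ucl midSet) :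
    tau K m l * z * (tau K m l)⁻¹ ∈ (coreG2 K).Ucl midSet := by
  have hle : (coreG2 K).Ucl midSet ≤
      ((coreG2 K).Ucl midSet).comap (MulAut.conj (tau K m l)).toMonoidHom := by
    refine (coreG2 K).Ucl_le fun r hr x => ?_
    have hr12 : r < 12 := (by decide +kernel : ∀ r ∈ [g2ab, g2aab, g2aaab, g2aaabb], r < 12) r hr
    show tau K m l * (coreG2 K).xGL r x * (tau K m l)⁻¹ ∈ (coreG2 K).Ucl midSet
    rw [tau_conj K m l hr12]
    exact (coreG2 K).xGL_mem_Ucl hr _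
  exact hle hz

omit [CharP K 3] [Fintype K] in
theorem lead_conj_tau (l : Kˣ) (t : K) :
    tau K m l * lead K m t * (tau K m l)⁻¹ = lead K m ((l : K) * t) := by
  rw [show tau K m l * lead K m t * (tau K m l)⁻¹ =
    (tau K m l * (coreG2 K).xGL g2a (t ^ 3 ^ m) * (tau K m l)⁻¹) *
      (tau K m l * (coreG2 K).xGL g2b t * (tau K m l)⁻¹) by rw [lead]; group,
    tau_conj K m l (by decide), tau_conj K m l (by decide), (chr_tau K m l).1, (chr_tau K m l).2,
    Units.val_pow_eq_pow_val, ← mul_pow]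
  rfl

/-- Two generators of a small Ree group. -/
theorem two_generated_twistedG2 (hn : Fintype.card K = 3 * (3 ^ m * 3 ^ m)) (hm : 1 ≤ m) :
    ∃ a b : ↥(twistedG2 K (3 ^ m)), Subgroup.closure ({a, b} : Set ↥(twistedG2 K (3 ^ m))) = ⊤ := by
  classical
  set G1 := twistedG2 K (3 ^ m) with hG1
  obtain ⟨g, hg⟩ := IsCyclic.exists_generator (α := Kˣ)
  have hord : orderOf g = 3 * (3 ^ m * 3 ^ m) - 1 := by
    rw [orderOf_eq_card_of_forall_mem_zpowers hg, Nat.card_units, Nat.card_eq_fintype_card, hn]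
  have hθ : 3 ≤ 3 ^ m := Nat.le_self_pow (by omega) 3
  set a := tau K m g with ha
  set x := uni K m 1 0 0 with hx
  set s := sRee hn with hs
  have haG : a ∈ G1 := (Subgroup.mem_inf.1 (tau_mem_H1 K hn g)).2
  have hUG : ∀ {z}, z ∈ U1 K m → z ∈ G1 := fun hz => (Subgroup.mem_inf.1 hz).2
  have hxG : x ∈ G1 := hUG (uni_mem_U1 K m 1 0 0)
  refine ⟨⟨a, haG⟩, ⟨x * s, mul_mem hxG (sRee_mem hn)⟩, ?_⟩
  apply Subgroup.map_injective G1.subtype_injective
  rw [MonoidHom.map_closure, Set.image_pair, ← MonoidHom.range_eq_map, Subgroup.range_subtype]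
  refine le_antisymm ((Subgroup.closure_le _).2 ?_) ?_
  · rintro y (rfl | rfl)
    exacts [haG, mul_mem hxG (sRee_mem hn)]
  show G1 ≤ Subgroup.closure {a, x * s}
  set M := Subgroup.closure ({a, x * s} : Set (GL chevG2.Idx K)) with hM
  have haM : a ∈ M := Subgroup.subset_closure (Set.mem_insert _ _)
  have hbM : x * s ∈ M := Subgroup.subset_closure (Set.mem_insert_of_mem _ rfl)
  have hHM : ∀ l, tau K m l ∈ M := by
    intro l
    obtain ⟨z, rfl⟩ := hg l
    simp only [map_zpow]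
    exact zpow_mem haM z
  have h3 : (3 : K) = 0 := CharP.cast_eq_zero K 3
  -- leading parts that occur in `M`
  have hTadd : ∀ t t', (∃ z ∈ (coreG2 K).Ucl midSet, lead K m t * z ∈ M) →
      (∃ z ∈ (coreG2 K).Ucl midSet, lead K m t' * z ∈ M) →
      ∃ z ∈ (coreG2 K).Ucl midSet, lead K m (t + t') * z ∈ M := by
    rintro t t' ⟨z, hz, h⟩ ⟨z', hz', h'⟩
    obtain ⟨τ, hτ, e⟩ := lead_mul_mid K m hz hz' t t'
    exact ⟨_, mul_mem (mul_mem (leadComm_mem K _ _) (mul_mem hz hz')) (top_le_mid K hτ),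
      e ▸ mul_mem h h'⟩
  let T : AddSubgroup K :=
    { carrier := {t | ∃ z ∈ (coreG2 K).Ucl midSet, lead K m t * z ∈ M}
      add_mem' := fun {t t'} => hTadd t t'
      zero_mem' := ⟨1, one_mem _, by rw [lead_zero, one_mul]; exact one_mem _⟩
      neg_mem' := fun {t} h => by
        show ∃ z ∈ (coreG2 K).Ucl midSet, lead K m (-t) * z ∈ M
        rw [show -t = t + t by linear_combination -t * h3]
        exact hTadd t t h h }
  have hxz : ∃ z ∈ (coreG2 K).Ucl midSet, x = lead K m 1 * z := exists_uni_eq_lead K m 1 0 0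
  -- a first non-trivial leading part
  obtain ⟨l', hl'⟩ : ∃ l', tau K m l' = s * a * s⁻¹ := by
    have h := (sRee_conj_H1 hn (tau_mem_H1 K hn g)).1
    rw [H1_eq K hn] at h
    exact h
  have hgne : g ≠ 1 := by
    intro h
    rw [h, orderOf_one] at hord
    have : 3 * 3 ≤ 3 ^ m * 3 ^ m := Nat.mul_le_mul hθ hθ
    omega
  have hl'1 : (l' : K) ≠ 1 := by
    intro h
    obtain rfl : l' = 1 := Units.ext h
    rw [map_one, eq_comm, conj_eq_one_iff, ha, ← map_one (tau K m)] at hl'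
    exact hgne (tau_injective K m hl')
  obtain ⟨c₀, hc₀, hc₀T⟩ : ∃ c, c ≠ 0 ∧ c ∈ T := by
    obtain ⟨z, hz, hxe⟩ := hxz
    set k := tau K m l' with hk
    have hkM : k ∈ M := hHM l'
    have hmem : x * k * x⁻¹ * k⁻¹ ∈ M := by
      refine mul_mem ?_ (inv_mem hkM)
      rw [hl', show x * (s * a * s⁻¹) * x⁻¹ = (x * s) * a * (x * s)⁻¹ by group]
      exact mul_mem (mul_mem hbM haM) (inv_mem hbM)
    refine ⟨(l' : K) - 1, sub_ne_zero.2 hl'1, ?_⟩
    have h1 : ∃ z₁ ∈ (coreG2 K).Ucl midSet, k * x * k⁻¹ = lead K m (l' : K) * z₁ :=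
      ⟨k * z * k⁻¹, mid_conj_tau l' hz, by
        rw [hxe, show k * (lead K m 1 * z) * k⁻¹ = k * lead K m 1 * k⁻¹ * (k * z * k⁻¹) by group,
          hk, lead_conj_tau, mul_one]⟩
    obtain ⟨z₁, hz₁, hk1⟩ := h1
    have h2 : k * x * k⁻¹ * x⁻¹ ∈ M := by
      have := inv_mem hmem
      rwa [show (x * k * x⁻¹ * k⁻¹)⁻¹ = k * x * k⁻¹ * x⁻¹ by group] at this
    set w := leadComm K ((1 : K) ^ 3 ^ m) ((l' : K) - 1) with hw
    obtain ⟨τ, hτ, e⟩ := lead_mul K m ((l' : K) - 1) 1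
    rw [sub_add_cancel] at e
    obtain ⟨τ', hτ', e'⟩ := conj_mid K (lead_mem_pos K m 1)
      (mul_mem (mul_mem (inv_mem (mul_mem (leadComm_mem K ((1 : K) ^ 3 ^ m) ((l' : K) - 1))
        (top_le_mid K hτ))) hz₁) (inv_mem hz))
    refine ⟨_, mul_mem (mul_mem (mul_mem (inv_mem (mul_mem (leadComm_mem K ((1 : K) ^ 3 ^ m)
      ((l' : K) - 1)) (top_le_mid K hτ))) hz₁) (inv_mem hz)) (top_le_mid K hτ'), ?_⟩
    have h3' : lead K m ((l' : K) - 1) = lead K m (l' : K) *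
        (leadComm K ((1 : K) ^ 3 ^ m) ((l' : K) - 1) * τ) * (lead K m 1)⁻¹ :=
      eq_mul_inv_of_mul_eq e
    convert h2 using 1
    rw [hk1, hxe, ← e', h3']
    group
  have hTall : ∀ t, t ∈ T := mem_of_stable hg (e := 1) (Or.inl rfl) T hc₀T hc₀ fun c hc => by
    obtain ⟨z, hz, h⟩ := hc
    refine ⟨a * z * a⁻¹, mid_conj_tau g hz, ?_⟩
    rw [zpow_one, ← lead_conj_tau, ha, show tau K m g * lead K m c * (tau K m g)⁻¹ *
      (tau K m g * z * (tau K m g)⁻¹) = tau K m g * (lead K m c * z) * (tau K m g)⁻¹ by group]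
    exact mul_mem (mul_mem haM h) (inv_mem haM)
  have hMG : M ≤ G1 := (Subgroup.closure_le _).2 (by
    rintro y (rfl | rfl)
    exacts [haG, mul_mem hxG (sRee_mem hn)])
  have hU1 : ∀ {t z}, z ∈ (coreG2 K).Ucl midSet → lead K m t * z ∈ M →
      lead K m t * z ∈ U1 K m := fun {t z} hz h =>
    Subgroup.mem_inf.2 ⟨mul_mem (lead_mem_pos K m t) (mid_le_pos K hz), hMG h⟩
  have hpow : ∀ (k : ℕ) (P : K → Prop),
      (∀ c, P c → P ((g : K) ^ k * c)) → ∀ (j : ℕ) c, P c → P (((g ^ k) ^ j : Kˣ) * c) := by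
    intro k P hP j
    induction j with
    | zero => intro c hc; simpa using hc
    | succ j ih =>
      intro c hc
      rw [_root_.pow_succ', Units.val_mul, mul_assoc, Units.val_pow_eq_pow_val]
      exact hP _ (ih c hc)
  have hqm : g ^ (3 * (3 ^ m * 3 ^ m) - 1) = 1 := hord ▸ pow_orderOf_eq_one g
  have hqz : ∀ z : ℤ, g ^ (((3 * (3 ^ m * 3 ^ m) - 1 : ℕ) : ℤ) * z) = 1 := fun z => by
    rw [zpow_mul, zpow_natCast, hqm, one_zpow]
  have hsub : ((3 * (3 ^ m * 3 ^ m) - 1 : ℕ) : ℤ) = 3 * (3 ^ m * 3 ^ m) - 1 := by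
    have : 1 ≤ 3 * (3 ^ m * 3 ^ m) := Nat.mul_pos (by norm_num) (by positivity)
    push_cast [Nat.cast_sub this]; ring
  -- the top
  have htop : ∀ v, uni K m 0 0 v ∈ M := by
    let V : AddSubgroup K :=
      { carrier := {v | uni K m 0 0 v ∈ M}
        add_mem' := fun {v v'} hv hv' => by
          show uni K m 0 0 (v + v') ∈ M
          rw [uni_top_add]; exact mul_mem hv hv'
        zero_mem' := by show uni K m 0 0 0 ∈ M; rw [uni_zero]; exact one_mem _
        neg_mem' := fun {v} hv => by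
          show uni K m 0 0 (-v) ∈ M
          rw [show -v = v + v by linear_combination -v * h3, uni_top_add]; exact mul_mem hv hv }
    obtain ⟨z, hz, h⟩ := hTall 1
    obtain ⟨t, u, v, huv⟩ := exists_uni K hn (hU1 hz h)
    have ht : t ≠ 0 := by
      rintro rfl
      obtain ⟨z', hz', hxe⟩ := hxz
      have h1 : lead K m 1 ∈ (coreG2 K).Ucl midSet := by
        have := mul_mem (huv ▸ uni_zero_mem_mid K u v) (inv_mem hz)
        rwa [mul_inv_cancel_right] at this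
      have h2 := mid_pow_three K (hxe ▸ mul_mem h1 hz')
      rw [hx, uni_cube K hn, uni_eq_one_iff] at h2
      simp at h2
    have hV : -t ^ (3 * 3 ^ m + 2) ∈ V := by
      show uni K m 0 0 _ ∈ M
      rw [← uni_cube K hn t u v, huv]; exact pow_mem h 3
    intro v
    refine mem_of_stable hg (e := -1) (Or.inr (Or.inl rfl)) V hV
      (neg_ne_zero.2 (pow_ne_zero _ ht)) (fun c hc => ?_) v
    have hstep : ∀ c, c ∈ V → (g : K) ^ (3 * 3 ^ m + 2) * c ∈ V := fun c hc => by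
      show uni K m 0 0 _ ∈ M
      have := tau_conj_uni K hn g 0 0 c
      rw [mul_zero, mul_zero] at this
      rw [← this]
      exact mul_mem (mul_mem haM hc) (inv_mem haM)
    have he : g ^ (-1 : ℤ) = (g ^ (3 * 3 ^ m + 2)) ^ (3 * 3 ^ m - 2) := by
      rw [← pow_mul, ← zpow_natCast g, Nat.cast_mul, Nat.cast_sub (by omega),
        show ((3 * 3 ^ m + 2 : ℕ) : ℤ) * ((3 * 3 ^ m : ℕ) - (2 : ℕ)) =
          ((3 * (3 ^ m * 3 ^ m) - 1 : ℕ) : ℤ) * 3 + -1 by rw [hsub]; push_cast; ring,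
        zpow_add, hqz, one_mul]
    rw [he]
    exact hpow _ (· ∈ V) hstep _ c hc
  -- the middle
  have hmid : ∀ u, uni K m 0 u 0 ∈ M := by
    let W : AddSubgroup K :=
      { carrier := {u | uni K m 0 u 0 ∈ M}
        add_mem' := fun {v v'} hv hv' => by
          show uni K m 0 (v + v') 0 ∈ M
          rw [uni_mid_add]; exact mul_mem hv hv'
        zero_mem' := by show uni K m 0 0 0 ∈ M; rw [uni_zero]; exact one_mem _
        neg_mem' := fun {v} hv => by
          show uni K m 0 (-v) 0 ∈ M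
          rw [show -v = v + v by linear_combination -v * h3, uni_mid_add]; exact mul_mem hv hv }
    obtain ⟨z₁, hz₁, h₁⟩ := hTall 1
    obtain ⟨z₂, hz₂, h₂⟩ := hTall (g : K)
    obtain ⟨τ₁, hτ₁, e₁⟩ := lead_mul_mid K m hz₁ hz₂ 1 (g : K)
    obtain ⟨τ₂, hτ₂, e₂⟩ := lead_mul_mid K m hz₂ hz₁ (g : K) 1
    rw [one_pow, add_comm (g : K) 1, mid_comm K hz₂ hz₁] at e₂
    set L₁ := leadComm K ((g : K) ^ 3 ^ m) 1
    set L₂ := leadComm K (1 : K) (g : K)
    have hD : L₂⁻¹ * L₁ * (τ₂⁻¹ * τ₁) ∈ M := by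
      have h : (lead K m (g : K) * z₂ * (lead K m 1 * z₁))⁻¹ *
          (lead K m 1 * z₁ * (lead K m (g : K) * z₂)) ∈ M :=
        mul_mem (inv_mem (mul_mem h₂ h₁)) (mul_mem h₁ h₂)
      rw [e₁, e₂] at h
      convert h using 1
      have hL₁ := leadComm_mem K ((g : K) ^ 3 ^ m) (1 : K)
      have hL₂ := leadComm_mem K (1 : K) (g : K)
      have hzz := mul_mem hz₁ hz₂
      have hτ₂m := top_le_mid K hτ₂
      set Z := z₁ * z₂
      rw [show (lead K m (1 + (g : K)) * (L₂ * Z * τ₂))⁻¹ * (lead K m (1 + (g : K)) *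
        (L₁ * Z * τ₁)) = τ₂⁻¹ * (Z⁻¹ * (L₂⁻¹ * L₁) * Z) * τ₁ by group,
        (mid_comm K (inv_mem hzz) (mul_mem (inv_mem hL₂) hL₁)).eq, inv_mul_cancel_right,
        (mid_comm K (inv_mem hτ₂m) (mul_mem (inv_mem hL₂) hL₁)).eq, mul_assoc _ τ₂⁻¹ τ₁]
    set D := L₂⁻¹ * L₁ * (τ₂⁻¹ * τ₁) with hDdef
    have hτ : τ₂⁻¹ * τ₁ ∈ (coreG2 K).Ucl topSet := mul_mem (inv_mem hτ₂) hτ₁
    have hDm : D ∈ (coreG2 K).Ucl midSet :=
      mul_mem (mul_mem (inv_mem (leadComm_mem K _ _)) (leadComm_mem K _ _)) (top_le_mid K hτ)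
    obtain ⟨t, u, v, huv⟩ := exists_uni K hn (Subgroup.mem_inf.2 ⟨mid_le_pos K hDm, hMG hD⟩)
    have ht : t = 0 := by
      have h := mid_pow_three K (huv ▸ hDm)
      rw [uni_cube K hn, uni_eq_one_iff] at h
      simpa using h.2.2
    subst ht
    have hu : u ≠ 0 := by
      rintro rfl
      -- then `D` is central in the positive unipotent subgroup
      have hz0 : uni K m 0 0 v ∈ (coreG2 K).Ucl topSet := by
        have hpos : 0 < 3 ^ m := Nat.pow_pos (by norm_num)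
        refine (?_ : uni K m 0 0 v = _) ▸ (coreG2 K).wordGL_mem_Ucl
          (w := [(g2aab, v ^ 3 ^ m), (g2aaabb, v)]) (by simp [topSet, listSet])
        simp [uni, reeWordU, ChevCore.wordGL_cons, ChevCore.wordGL_nil, (coreG2 K).xGL_zero,
          zero_pow hpos.ne', zero_pow (Nat.succ_ne_zero _)]
      have hL : L₂⁻¹ * L₁ ∈ (coreG2 K).Ucl topSet := by
        have := mul_mem (huv ▸ hz0 : D ∈ _) (inv_mem hτ)
        rwa [hDdef, mul_inv_cancel_right] at this
      have hxa : chevG2.IsPosRoot g2a := by decide +kernel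
      set A := (coreG2 K).xGL g2a 1 with hA
      have hpairs : ∀ r ∈ [g2aab, g2aaab, g2aaabb], r = g2a ∨ (g2a < chevG2.nroots ∧
          r < chevG2.nroots ∧ r ≠ g2a ∧ r ≠ chevG2.neg g2a ∧
          ∀ c ∈ chevG2.commTerms g2a r, c.2.1 % 3 = 0) := by decide +kernel
      have hsplit : ∀ A' B : K, ∃ R, Commute A R ∧ R ∈ (coreG2 K).Ucl midSet ∧
          leadComm K A' B = (coreG2 K).xGL g2ab (A' * B) * R := fun A' B => by
        refine ⟨(coreG2 K).wordGL [(g2aab, A' ^ 2 * B), (g2aaab, -(A' ^ 3 * B)),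
          (g2aaabb, -(A' ^ 3 * B ^ 2))], ?_, (coreG2 K).wordGL_mem_Ucl (by simp [midSet, listSet]),
          by rw [leadComm, (coreG2 K).wordGL_cons]⟩
        simp only [ChevCore.wordGL_cons, ChevCore.wordGL_nil, mul_one]
        exact (commute_pair K (hpairs g2aab (by simp)) _ _).mul_right
          ((commute_pair K (hpairs g2aaab (by simp)) _ _).mul_right
            (commute_pair K (hpairs g2aaabb (by simp)) _ _))
      obtain ⟨R₁, hR₁, hR₁m, eR₁⟩ := hsplit ((g : K) ^ 3 ^ m) 1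
      obtain ⟨R₂, hR₂, hR₂m, eR₂⟩ := hsplit 1 (g : K)
      rw [mul_one] at eR₁; rw [one_mul] at eR₂
      have hc : Commute A ((coreG2 K).xGL g2ab ((g : K) ^ 3 ^ m - (g : K))) := by
        have hm : ∀ y, (coreG2 K).xGL g2ab y ∈ (coreG2 K).Ucl midSet := fun y =>
          (coreG2 K).xGL_mem_Ucl (by simp [midSet, listSet]) y
        have e : L₂⁻¹ * L₁ = (coreG2 K).xGL g2ab ((g : K) ^ 3 ^ m - (g : K)) * (R₂⁻¹ * R₁) := by
          rw [show L₁ = _ from eR₁, show L₂ = _ from eR₂, _root_.mul_inv_rev, sub_eq_add_neg,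
            (coreG2 K).xGL_add, ← (coreG2 K).xGL_inv, mul_assoc,
            ← mul_assoc ((coreG2 K).xGL g2ab (g : K))⁻¹,
            (mid_comm K (inv_mem (hm (g : K))) (hm ((g : K) ^ 3 ^ m))).eq,
            ← mul_assoc R₂⁻¹, ← mul_assoc R₂⁻¹,
            (mid_comm K (inv_mem hR₂m) (hm ((g : K) ^ 3 ^ m))).eq,
            mul_assoc _ R₂⁻¹, (mid_comm K (inv_mem hR₂m) (inv_mem (hm (g : K)))).eq]
          simp only [mul_assoc]
        have h1 : Commute A (L₂⁻¹ * L₁) :=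
          top_central K hL ((coreG2 K).xGL_mem_posUnipotent hxa 1)
        rw [e] at h1
        have h2 := h1.mul_right (hR₂.inv_right.mul_right hR₁).inv_right
        rwa [mul_inv_cancel_right] at h2
      have hd : g2a < chevG2.nroots ∧ g2ab < chevG2.nroots ∧ g2ab ≠ g2a ∧
          g2ab ≠ chevG2.neg g2a ∧ chevG2.commTerms g2a g2ab =
            [(g2aab, -2, 1, 1), (g2aaab, -3, 2, 1), (g2aaabb, 3, 1, 2)] := by decide +kernel
      obtain ⟨d1, d2, d3, d4, d5⟩ := hd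
      set δ := (g : K) ^ 3 ^ m - (g : K) with hδ
      have h1 := (coreG2 K).xGL_comm d1 d2 d3 d4 (1 : K) δ
      rw [← hc.eq, left_eq_mul, ChevalleyDatum.commWord, d5] at h1
      simp [ChevCore.wordGL_cons, ChevCore.wordGL_nil, h3, (coreG2 K).xGL_zero] at h1
      have h2 : (2 : K) * δ = 0 :=
        (coreG2 K).xGL_injective (show g2aab < chevG2.nroots by decide)
          (h1.trans ((coreG2 K).xGL_zero g2aab).symm)
      have hδ0 : δ ≠ 0 := by
        intro h0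
        rw [hδ, sub_eq_zero] at h0
        have h4 : g ^ (3 ^ m - 1) = 1 := by
          rw [pow_sub _ (by omega), pow_one, mul_inv_eq_one]
          exact Units.ext (by simpa using h0)
        have h5 := Nat.le_of_dvd (by omega) (orderOf_dvd_of_pow_eq_one h4)
        rw [hord] at h5
        have : 3 ^ m ≤ 3 ^ m * 3 ^ m := Nat.le_mul_self _
        omega
      rcases mul_eq_zero.1 h2 with h | h
      · exact one_ne_zero (show (1 : K) = 0 by linear_combination h3 - h)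
      · exact hδ0 h
    have hW : u ∈ W := by
      show uni K m 0 u 0 ∈ M
      have h1 : uni K m 0 u v * (uni K m 0 0 v)⁻¹ ∈ M := mul_mem (huv ▸ hD) (inv_mem (htop v))
      rwa [uni_zero_mul K m u v, mul_inv_cancel_right] at h1
    intro u'
    refine mem_of_stable hg (e := 2) (Or.inr (Or.inr (Or.inl rfl))) W hW hu (fun c hc => ?_) u'
    have hstep : ∀ c, c ∈ W → (g : K) ^ (3 * 3 ^ m + 1) * c ∈ W := fun c hc => by
      show uni K m 0 _ 0 ∈ M
      have := tau_conj_uni K hn g 0 c 0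
      rw [mul_zero, mul_zero] at this
      rw [← this]
      exact mul_mem (mul_mem haM hc) (inv_mem haM)
    have he : g ^ (2 : ℤ) = (g ^ (3 * 3 ^ m + 1)) ^ (3 * 3 ^ m - 1) := by
      rw [← pow_mul, ← zpow_natCast g, Nat.cast_mul, Nat.cast_sub (by omega),
        show ((3 * 3 ^ m + 1 : ℕ) : ℤ) * ((3 * 3 ^ m : ℕ) - (1 : ℕ)) =
          ((3 * (3 ^ m * 3 ^ m) - 1 : ℕ) : ℤ) * 3 + 2 by rw [hsub]; push_cast; ring,
        zpow_add, hqz, one_mul]
    rw [he]
    exact hpow _ (· ∈ W) hstep _ c hc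
  -- the whole of `U1`
  have hUM : ∀ {y}, y ∈ U1 K m → y ∈ M := by
    intro y hy
    obtain ⟨t, u, v, rfl⟩ := exists_uni K hn hy
    obtain ⟨z, hz, h⟩ := hTall t
    obtain ⟨z', hz', e⟩ := exists_uni_eq_lead K m t u v
    have hq : (lead K m t * z)⁻¹ * uni K m t u v = z⁻¹ * z' := by rw [e]; group
    have hqm : z⁻¹ * z' ∈ (coreG2 K).Ucl midSet := mul_mem (inv_mem hz) hz'
    have hqU : z⁻¹ * z' ∈ U1 K m := hq ▸ mul_mem (inv_mem (hU1 hz h)) hy
    obtain ⟨t₁, u₁, v₁, h1⟩ := exists_uni K hn hqU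
    have ht₁ : t₁ = 0 := by
      have h := mid_pow_three K (h1 ▸ hqm)
      rw [uni_cube K hn, uni_eq_one_iff] at h
      simpa using h.2.2
    subst ht₁
    have h2 : z⁻¹ * z' ∈ M := h1 ▸ uni_zero_mul K m u₁ v₁ ▸ mul_mem (hmid u₁) (htop v₁)
    rw [← hq] at h2
    have h3 := mul_mem h h2
    rwa [mul_inv_cancel_left] at h3
  have hsM : s ∈ M := (Subgroup.mul_mem_cancel_left M (hUM (uni_mem_U1 K m 1 0 0))).1 hbM
  have hH1M : ∀ {h}, h ∈ H1 K m → h ∈ M := by
    intro h hh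
    rw [H1_eq K hn] at hh
    obtain ⟨l, rfl⟩ := hh
    exact hHM l
  intro y hy
  rcases bruhat hn hy with h | ⟨u, hu, h, hh, v, hv, rfl⟩
  · obtain ⟨u, hu, k, hk, rfl⟩ := (mem_B1 hn).1 h
    exact mul_mem (hUM hu) (hH1M hk)
  · exact mul_mem (mul_mem (mul_mem (hUM hu) (hH1M hh)) hsM) (hUM hv)

end CfsgLib.ChevGen
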