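import Cfsg.Agent.Lib.ChevGen.TwoGen

/-!
Two generators of a twisted group given by the generators `x_a(t) x_b(t^q) …` along orbits of simple
roots: a torus element times a commuting root element and an orbit element times a product of
representatives of simple reflections.
-/

set_option autoImplicit false

namespace CfsgLib.ChevGen

open Cfsg.Lie CfsgLib.ChevStr
open scoped MatrixGroups

variable {D : ChevalleyDatum} {F : Type*} [Field F] (C : ChevCore D F)

/-- The word `x_a(t) x_b(t^q) …` along a list of roots. -/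
def twWord (q : ℕ) : List ℕ → F → List (ℕ × F)
  | [], _ => []
  | a :: A, t => (a, t) :: twWord q A (t ^ q)

/-- The element `x_a(t) x_b(t^q) …`. -/
def twX (q : ℕ) (A : List ℕ) (t : F) : GL D.Idx F := C.wordGL (twWord q A t)

/-- The product `n_a(t) n_b(t^q) …`. -/
def twN (q : ℕ) : List ℕ → F → GL D.Idx F
  | [], _ => 1
  | a :: A, t => C.nGL a t * twN q A (t ^ q)

theorem twX_cons (q a : ℕ) (A : List ℕ) (t : F) :
    twX C q (a :: A) t = C.xGL a t * twX C q A (t ^ q) := by
  rw [twX, twWord, C.wordGL_cons]; rfl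

theorem twX_nil (q : ℕ) (t : F) : twX C q [] t = 1 := rfl

theorem twX_single (q a : ℕ) (t : F) : twX C q [a] t = C.xGL a t := by
  rw [twX_cons, twX_nil, mul_one]

/-- The product of representatives along a word. -/
def nElt (w : List (Fin D.rank)) : GL D.Idx F := (w.map C.nS).prod

/-- The sign of the action of a product of representatives on a root. -/
def wordSign (D : ChevalleyDatum) (η : Fin D.rank → ℕ → ℤ) : List (Fin D.rank) → ℕ → ℤ
  | [], _ => 1
  | i :: w, s => η i (coxApply D w s) * wordSign D η w s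

/-- A word repeated. -/
def coxWord (k : ℕ) (w : List (Fin D.rank)) : List (Fin D.rank) := (List.replicate k w).flatten

theorem nElt_append (v w : List (Fin D.rank)) : nElt C (v ++ w) = nElt C v * nElt C w := by
  simp [nElt]

theorem nElt_coxWord (k : ℕ) (w : List (Fin D.rank)) : nElt C (coxWord k w) = nElt C w ^ k := by
  induction k with
  | zero => simp [coxWord, nElt]
  | succ k ih =>
    rw [pow_succ', ← ih, ← nElt_append]
    simp [coxWord, List.replicate_succ]

theorem nElt_mem_monomial (w : List (Fin D.rank)) : nElt C w ∈ D.monomialSubgroup F :=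
  Subgroup.list_prod_mem _ fun x hx => by
    obtain ⟨i, -, rfl⟩ := List.mem_map.1 hx
    exact C.nS_mem_monomial i

theorem nElt_acts (w : List (Fin D.rank)) : C.Acts (nElt C w) (C.hR.wordPerm w) := by
  induction w with
  | nil => simpa [nElt, ReflData.wordPerm] using C.acts_one
  | cons i w ih =>
    rw [show C.hR.wordPerm (i :: w) = C.hR.sPerm i * C.hR.wordPerm w by simp [ReflData.wordPerm],
      show nElt C (i :: w) = C.nS i * nElt C w by simp [nElt]]
    exact ChevCore.Acts.mul C (C.acts_nS i) ih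

theorem nElt_conj (w : List (Fin D.rank)) {s : ℕ} (hs : s < D.nroots) :
    ∀ t : F, nElt C w * C.xGL s t * (nElt C w)⁻¹ =
      C.xGL (coxApply D w s) ((wordSign D C.η w s : F) * t) := by
  induction w with
  | nil => intro t; simp [nElt, coxApply, wordSign]
  | cons i w ih =>
    intro t
    have hlt : coxApply D w s < D.nroots := by
      rw [← coxApply_eq C w ⟨s, hs⟩]; exact Fin.isLt _
    have h1 : C.nS i * C.xGL (coxApply D w s) ((wordSign D C.η w s : F) * t) * (C.nS i)⁻¹ =
        C.xGL (D.reflectRoot i.val (coxApply D w s))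
          ((C.η i (coxApply D w s) : F) * ((wordSign D C.η w s : F) * t)) := by
      rw [mul_inv_eq_iff_eq_mul]
      exact Units.ext (by simpa using C.n_conj i _ hlt _)
    rw [show nElt C (i :: w) = C.nS i * nElt C w by simp [nElt],
      show C.nS i * nElt C w * C.xGL s t * (C.nS i * nElt C w)⁻¹ =
        C.nS i * (nElt C w * C.xGL s t * (nElt C w)⁻¹) * (C.nS i)⁻¹ by group, ih t, h1, wordSign,
      Int.cast_mul, mul_assoc]
    rfl

/-- The roots of a list are moved onto another one with one sign. -/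
def MapsTo (η : Fin D.rank → ℕ → ℤ) (w : List (Fin D.rank)) (A B : List ℕ) (e : ℤ) : Prop :=
  (∀ a ∈ A, a < D.nroots ∧ wordSign D η w a = e) ∧ A.map (coxApply D w) = B

instance (η : Fin D.rank → ℕ → ℤ) (w : List (Fin D.rank)) (A B : List ℕ) (e : ℤ) :
    Decidable (MapsTo η w A B e) :=
  inferInstanceAs (Decidable (_ ∧ _))

theorem cast_unit_pow {q : ℕ} (hneg : (-1 : F) ^ q = -1) {e : ℤ} (he : e = 1 ∨ e = -1) :
    (e : F) ^ q = e := by rcases he with rfl | rfl <;> simp [hneg]

theorem twX_conj_n {q : ℕ} (hneg : (-1 : F) ^ q = -1) {w : List (Fin D.rank)} {A B : List ℕ}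
    {e : ℤ} (he : e = 1 ∨ e = -1) (h : MapsTo C.η w A B e) (t : F) :
    nElt C w * twX C q A t * (nElt C w)⁻¹ = twX C q B ((e : F) * t) := by
  obtain ⟨hA, rfl⟩ := h
  induction A generalizing t with
  | nil => simp [twX_nil]
  | cons a A ih =>
    rw [List.map_cons, twX_cons, twX_cons,
      show nElt C w * (C.xGL a t * twX C q A (t ^ q)) * (nElt C w)⁻¹ =
        (nElt C w * C.xGL a t * (nElt C w)⁻¹) * (nElt C w * twX C q A (t ^ q) * (nElt C w)⁻¹) by
          group,
      nElt_conj C w (hA a (List.mem_cons_self ..)).1, ih _ (fun b hb => hA b (List.mem_cons_of_mem _ hb)),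
      (hA a (List.mem_cons_self ..)).2, mul_pow, cast_unit_pow hneg he]

/-- The roots of the list are moved onto the other one with one sign. -/
def MapsSign (η : Fin D.rank → ℕ → ℤ) (w : List (Fin D.rank)) (A B : List ℕ) : Prop :=
  MapsTo η w A B 1 ∨ MapsTo η w A B (-1)

instance (η : Fin D.rank → ℕ → ℤ) (w : List (Fin D.rank)) (A B : List ℕ) :
    Decidable (MapsSign η w A B) :=
  inferInstanceAs (Decidable (_ ∨ _))

theorem exists_mapsTo {η : Fin D.rank → ℕ → ℤ} {w : List (Fin D.rank)}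
    {A B : List ℕ} (h : MapsSign η w A B) : ∃ e : ℤ, (e = 1 ∨ e = -1) ∧ MapsTo η w A B e :=
  h.elim (fun h => ⟨1, Or.inl rfl, h⟩) (fun h => ⟨-1, Or.inr rfl, h⟩)

theorem push_twX {q : ℕ} (hneg : (-1 : F) ^ q = -1) {M : Subgroup (GL D.Idx F)}
    {w : List (Fin D.rank)} (hn : nElt C w ∈ M) {j : ℕ} {A B : List ℕ}
    (hm : MapsSign C.η (coxWord j w) A B) (S : Set F) (hS : ∀ t ∈ S, -t ∈ S)
    (hA : ∀ t ∈ S, twX C q A t ∈ M) : ∀ t ∈ S, twX C q B t ∈ M := by
  intro t ht
  have hpow : nElt C (coxWord j w) ∈ M := by rw [nElt_coxWord]; exact pow_mem hn j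
  obtain ⟨e, he, hm⟩ := exists_mapsTo hm
  have h1 := twX_conj_n C hneg he hm ((e : F) * t)
  rw [show (e : F) * ((e : F) * t) = t by rcases he with rfl | rfl <;> simp] at h1
  rw [← h1]
  refine mul_mem (mul_mem hpow (hA _ ?_)) (inv_mem hpow)
  rcases he with rfl | rfl <;> simpa using by first | exact ht | exact hS t ht

theorem mem_zpowers_of_pow_eq_self {g : Fˣ} (hg : ∀ x : Fˣ, x ∈ Subgroup.zpowers g) {q d : ℕ}
    (hq : 2 ≤ q) (hord : orderOf g = d * (q - 1)) {x : Fˣ} (hx : x ^ q = x) :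
    x ∈ Subgroup.zpowers (g ^ d) := by
  obtain ⟨z, rfl⟩ := hg x
  have h1 : g ^ (z * ((q : ℤ) - 1)) = 1 := by
    rw [zpow_mul, zpow_sub_one, zpow_natCast, mul_inv_eq_one]
    exact hx
  rw [← orderOf_dvd_iff_zpow_eq_one, hord, Nat.cast_mul, Nat.cast_sub (by omega), Nat.cast_one] at h1
  obtain ⟨z', rfl⟩ := (mul_dvd_mul_iff_right (show ((q : ℤ) - 1) ≠ 0 by omega)).1 h1
  exact ⟨z', by simp only [zpow_mul, zpow_natCast]⟩

/-- An element scales the root subgroups of a list by `χ, χ^q, …`. -/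
def TwScale (q : ℕ) (h : GL D.Idx F) : List ℕ → F → Prop
  | [], _ => True
  | a :: A, χ => (∀ u : F, h * C.xGL a u * h⁻¹ = C.xGL a (χ * u)) ∧ TwScale q h A (χ ^ q)

theorem twX_conj_scale {q : ℕ} {h : GL D.Idx F} :
    ∀ {A : List ℕ} {χ : F}, TwScale C q h A χ →
      ∀ t : F, h * twX C q A t * h⁻¹ = twX C q A (χ * t)
  | [], _, _, t => by simp [twX_nil]
  | a :: A, χ, hs, t => by
    rw [twX_cons, twX_cons,
      show h * (C.xGL a t * twX C q A (t ^ q)) * h⁻¹ =
        (h * C.xGL a t * h⁻¹) * (h * twX C q A (t ^ q) * h⁻¹) by group,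
      hs.1, twX_conj_scale hs.2, mul_pow]

/-- The roots of a list commute pairwise. -/
def CommList (D : ChevalleyDatum) (A B : List ℕ) : Prop :=
  ∀ a ∈ A, ∀ b ∈ B, a < D.nroots ∧ b < D.nroots ∧
    (b = a ∨ (b ≠ D.neg a ∧ D.commTerms a b = []))

instance (A B : List ℕ) : Decidable (CommList D A B) :=
  inferInstanceAs (Decidable (∀ a ∈ A, ∀ b ∈ B, _))

theorem commute_xGL_of_commList {A B : List ℕ} (h : CommList D A B) {a b : ℕ} (ha : a ∈ A)
    (hb : b ∈ B) (t u : F) : Commute (C.xGL a t) (C.xGL b u) := by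
  obtain ⟨h1, h2, h3⟩ := h a ha b hb
  rcases h3 with rfl | ⟨h3, h4⟩
  · show _ * _ = _ * _
    rw [← C.xGL_add, ← C.xGL_add, add_comm]
  · by_cases hba : b = a
    · subst hba; show _ * _ = _ * _; rw [← C.xGL_add, ← C.xGL_add, add_comm]
    · have h5 := C.xGL_comm h1 h2 hba h3 t u
      simpa [ChevalleyDatum.commWord, h4, ChevCore.wordGL, Commute, SemiconjBy] using h5.symm

theorem commute_xGL_twX {A B : List ℕ} (h : CommList D A B) {a : ℕ} (ha : a ∈ A) (q : ℕ)
    (t u : F) : Commute (C.xGL a t) (twX C q B u) := by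
  induction B generalizing u with
  | nil => rw [twX_nil]; exact Commute.one_right _
  | cons b B ih =>
    rw [twX_cons]
    exact (commute_xGL_of_commList C h ha (List.mem_cons_self ..) t u).mul_right
      (ih (fun a ha b hb => h a ha b (List.mem_cons_of_mem _ hb)) _)

theorem twX_add {q : ℕ} (hadd : ∀ t u : F, (t + u) ^ q = t ^ q + u ^ q) :
    ∀ {A : List ℕ}, CommList D A A → ∀ t u : F,
      twX C q A (t + u) = twX C q A t * twX C q A u
  | [], _, t, u => by simp [twX_nil]
  | a :: A, h, t, u => by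
    rw [twX_cons, twX_cons, twX_cons, C.xGL_add, hadd,
      twX_add hadd (fun b hb c hc => h b (List.mem_cons_of_mem _ hb) c (List.mem_cons_of_mem _ hc))]
    simp only [mul_assoc]
    congr 1
    rw [← mul_assoc, ← mul_assoc]
    congr 1
    exact commute_xGL_twX C (A := a :: A) (B := A)
      (fun b hb c hc => h b hb c (List.mem_cons_of_mem _ hc)) (List.mem_cons_self ..) q u _

theorem twX_zero {q : ℕ} (hq : q ≠ 0) : ∀ A : List ℕ, twX C q A (0 : F) = 1
  | [] => twX_nil C q 0
  | a :: A => by rw [twX_cons, zero_pow hq, twX_zero hq A, C.xGL_zero, one_mul]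

theorem twX_neg {q : ℕ} (hq : q ≠ 0) (hadd : ∀ t u : F, (t + u) ^ q = t ^ q + u ^ q) {A : List ℕ}
    (h : CommList D A A) (t : F) : twX C q A (-t) = (twX C q A t)⁻¹ :=
  (inv_eq_of_mul_eq_one_right (by rw [← twX_add C hadd h, add_neg_cancel, twX_zero C hq])).symm

theorem twScale_torus {c : Fin D.rank → Fˣ} {q : ℕ} : ∀ {A : List ℕ} {χ : Fˣ},
    (∀ k (hk : k < A.length), A[k] < D.nroots ∧ C.R.torusChar c (C.R.α A[k]) = χ ^ q ^ k) →
      TwScale C q (C.R.torus c) A (χ : F)
  | [], _, _ => trivial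
  | a :: A, χ, h => by
    obtain ⟨ha, hχ⟩ := h 0 (by simp)
    simp only [List.getElem_cons_zero, pow_zero, pow_one] at ha hχ
    refine ⟨fun u => ?_, ?_⟩
    · have h1 := C.acts_torus c ⟨a, ha⟩ u
      rwa [hχ] at h1
    · rw [← Units.val_pow_eq_pow_val]
      refine twScale_torus fun k hk => ?_
      obtain ⟨h1, h2⟩ := h (k + 1) (by simpa using hk)
      simp only [List.getElem_cons_succ] at h1 h2
      exact ⟨h1, by rw [h2, ← pow_mul, ← pow_succ']⟩

theorem fullOn_fixed [Finite F] {q : ℕ} (hq : 2 ≤ q) {g : Fˣ}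
    (hg : ∀ x : Fˣ, x ∈ Subgroup.zpowers g) {d : ℕ} (hord : orderOf g = d * (q - 1))
    {h : GL D.Idx F} {a : ℕ} {N : Fˣ} (hN : g ^ d ∈ Subgroup.zpowers N)
    (hsc : TwScale C q h [a] (N : F)) {M : Subgroup (GL D.Idx F)} (hh : h ∈ M)
    (hone : twX C q [a] (1 : F) ∈ M) : ∀ t : F, t ^ q = t → twX C q [a] t ∈ M := by
  intro t ht
  by_cases h0 : t = 0
  · rw [h0, twX_zero C (by omega)]; exact one_mem _
  have h1 : Units.mk0 t h0 ∈ Subgroup.zpowers N :=
    (Subgroup.zpowers_le.2 hN) (mem_zpowers_of_pow_eq_self hg hq hord (Units.ext ht))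
  obtain ⟨j, hj : N ^ j = Units.mk0 t h0⟩ := (mem_powers_iff_mem_zpowers).2 h1
  have hall : ∀ j : ℕ, twX C q [a] ((N ^ j : Fˣ) : F) ∈ M := by
    intro j
    induction j with
    | zero => simpa using hone
    | succ j ih =>
      rw [pow_succ', Units.val_mul, ← twX_conj_scale C hsc]
      exact mul_mem (mul_mem hh ih) (inv_mem hh)
  have h2 := hall j
  rwa [hj, Units.val_mk0] at h2

theorem twX_swap {q : ℕ} {a b : ℕ} (h : CommList D [a] [b]) {t : F} (ht : (t ^ q) ^ q = t) :
    twX C q [a, b] t = twX C q [b, a] (t ^ q) := by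
  rw [twX_cons, twX_single, twX_cons, twX_single, ht]
  exact commute_xGL_of_commList C h (List.mem_cons_self ..) (List.mem_cons_self ..) _ _

theorem twN_eq {q : ℕ} (hneg : (-1 : F) ^ q = -1) : ∀ {A : List ℕ},
    A.Nodup → (∀ a ∈ A, ∀ b ∈ A, a ≠ b →
      CommList D [a, D.neg a] [b, D.neg b]) → ∀ t : F,
    twN C q A t = twX C q A t * twX C q (A.map D.neg) (-t⁻¹) * twX C q A t
  | [], _, _, t => by simp [twN, twX_nil]
  | a :: A, hnd, h, t => by
    obtain ⟨hna, hnd⟩ := List.nodup_cons.1 hnd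
    have hc : CommList D [a, D.neg a] (A ++ A.map D.neg) := by
      intro x hx y hy
      rcases List.mem_append.1 hy with hy | hy
      · exact h a (List.mem_cons_self ..) y (List.mem_cons_of_mem _ hy)
          (fun e => hna (e ▸ hy)) x hx y (List.mem_cons_self ..)
      · obtain ⟨z, hz, rfl⟩ := List.mem_map.1 hy
        exact h a (List.mem_cons_self ..) z (List.mem_cons_of_mem _ hz)
          (fun e => hna (e ▸ hz)) x hx (D.neg z) (List.mem_cons_of_mem _ (List.mem_cons_self ..))
    have hp : ∀ x ∈ [a, D.neg a], ∀ u v : F, Commute (C.xGL x u) (twX C q A v) ∧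
        Commute (C.xGL x u) (twX C q (A.map D.neg) v) := fun x hx u v =>
      ⟨commute_xGL_twX C (fun c hc' d hd => hc c hc' d (List.mem_append_left _ hd)) hx q u v,
        commute_xGL_twX C (fun c hc' d hd => hc c hc' d (List.mem_append_right _ hd)) hx q u v⟩
    rw [twN, twN_eq hneg hnd (fun x hx y hy => h x (List.mem_cons_of_mem _ hx) y
        (List.mem_cons_of_mem _ hy)), List.map_cons, twX_cons, twX_cons, neg_pow, hneg,
      inv_pow, neg_one_mul,
      show C.nGL a t = C.xGL a t * C.xGL (D.neg a) (-t⁻¹) * C.xGL a t by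
        simp [ChevCore.nGL, ChevCore.wordGL, ChevalleyDatum.nWord, mul_assoc]]
    set P := twX C q A (t ^ q)
    set Q := twX C q (A.map D.neg) (-(t ^ q)⁻¹)
    set x := C.xGL a t
    set y := C.xGL (D.neg a) (-t⁻¹)
    have h1 : Commute x P := (hp a (by simp) t _).1
    have h2 : Commute x Q := (hp a (by simp) t _).2
    have h3 : Commute y P := (hp (D.neg a) (by simp) _ _).1
    calc x * y * x * (P * Q * P) = x * (y * (x * P)) * Q * P := by simp only [mul_assoc]
      _ = x * (y * P * x) * Q * P := by rw [h1.eq]; simp only [mul_assoc]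
      _ = x * P * y * (x * Q) * P := by rw [h3.eq]; simp only [mul_assoc]
      _ = _ := by rw [h2.eq]; simp only [mul_assoc]

theorem twN_mem {q : ℕ} (hneg : (-1 : F) ^ q = -1) {G1 : Subgroup (GL D.Idx F)} {A : List ℕ}
    (hnd : A.Nodup)
    (h : ∀ a ∈ A, ∀ b ∈ A, a ≠ b → CommList D [a, D.neg a] [b, D.neg b])
    {t : F} (h1 : twX C q A t ∈ G1) (h2 : twX C q (A.map D.neg) (-t⁻¹) ∈ G1) :
    twN C q A t ∈ G1 := by
  rw [twN_eq C hneg hnd h]
  exact mul_mem (mul_mem h1 h2) h1

theorem commute_nGL {a b : ℕ} (h : CommList D [a, D.neg a] [b, D.neg b]) (t u : F) :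
    Commute (C.nGL a t) (C.nGL b u) := by
  have hc := fun {x y : ℕ} (hx : x ∈ [a, D.neg a]) (hy : y ∈ [b, D.neg b]) (v w : F) =>
    commute_xGL_of_commList C h hx hy v w
  simp only [ChevCore.nGL, ChevCore.wordGL, ChevalleyDatum.nWord, List.map_cons, List.map_nil,
    List.prod_cons, List.prod_nil, mul_one]
  refine .mul_left ?_ (.mul_left ?_ ?_) <;> refine .mul_right ?_ (.mul_right ?_ ?_) <;>
    exact hc (by simp) (by simp) _ _

theorem twScale_conj {q : ℕ} {w : List (Fin D.rank)} {h : GL D.Idx F} :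
    ∀ {A : List ℕ} {χ : F}, (∀ a ∈ A, a < D.nroots) → TwScale C q h A χ →
      TwScale C q (nElt C w * h * (nElt C w)⁻¹) (A.map (coxApply D w)) χ
  | [], _, _, _ => trivial
  | a :: A, χ, hA, hs => by
    refine ⟨fun u => ?_, twScale_conj (fun b hb => hA b (List.mem_cons_of_mem _ hb)) hs.2⟩
    have ha := hA a (List.mem_cons_self ..)
    obtain ⟨-, e, he⟩ := nElt_acts C w
    obtain ⟨h1, -, h2⟩ := he ⟨a, ha⟩
    have h4 : ((C.hR.wordPerm w ⟨a, ha⟩ : Fin D.nroots) : ℕ) = coxApply D w a :=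
      coxApply_eq C w ⟨a, ha⟩
    rw [h4] at h2
    dsimp only at h1 h2
    have h3 : C.xGL (coxApply D w a) u = nElt C w * C.xGL a ((e a : F) * u) * (nElt C w)⁻¹ := by
      rw [h2]; rcases h1 with h' | h' <;> simp [h']
    rw [h3, show nElt C w * h * (nElt C w)⁻¹ *
        (nElt C w * C.xGL a ((e a : F) * u) * (nElt C w)⁻¹) * (nElt C w * h * (nElt C w)⁻¹)⁻¹ =
      nElt C w * (h * C.xGL a ((e a : F) * u) * h⁻¹) * (nElt C w)⁻¹ by group, hs.1, h2]
    congr 1
    rcases h1 with h' | h' <;> simp [h']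

/-- Two generators of a group of fixed points, when the spreading is known. -/
theorem two_generated_twist [Fintype F] {q : ℕ} (hq : 2 ≤ q)
    (hadd : ∀ t u : F, (t + u) ^ q = t ^ q + u ^ q)
    (G1 : Subgroup (GL D.Idx F)) {c : Fin D.rank → Fˣ} (htorG : C.R.torus c ∈ G1)
    {w : List (Fin D.rank)} (hnG : nElt C w ∈ G1)
    {y : GL D.Idx F} (hyG : y ∈ G1) (hy : Commute (C.R.torus c) y) {p : ℕ} [CharP F p]
    (hyp : y ^ p = 1) {A A' : List ℕ} (hXG : twX C q A 1 ∈ G1) (hcl : CommList D A A)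
    (hlt : ∀ a ∈ A', a < D.nroots) (hmap : A'.map (coxApply D w) = A) {g : Fˣ}
    (hg : ∀ x : Fˣ, x ∈ Subgroup.zpowers g) {e : ℤ} (he : e = 1 ∨ e = -1 ∨ e = 2 ∨ e = -2)
    (hA : TwScale C q (C.R.torus c) A ((g ^ e : Fˣ) : F)) (hne : g ^ e ≠ 1) {κ : F} (hκ : κ ≠ 1)
    (hA' : TwScale C q (C.R.torus c) A' κ)
    (hspread : ∀ M : Subgroup (GL D.Idx F), C.R.torus c ∈ M → y ∈ M → nElt C w ∈ M →
      (∀ t, twX C q A t ∈ M) → G1 ≤ M) :
    ∃ a b : ↥G1, Subgroup.closure ({a, b} : Set ↥G1) = ⊤ := by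
  classical
  set tor := C.R.torus c with htor
  set n := nElt C w with hn
  set a := tor * y with ha
  set b := twX C q A 1 * n with hb
  refine ⟨⟨a, mul_mem htorG hyG⟩, ⟨b, mul_mem hXG hnG⟩, ?_⟩
  apply Subgroup.map_injective G1.subtype_injective
  rw [MonoidHom.map_closure, Set.image_pair, ← MonoidHom.range_eq_map, Subgroup.range_subtype]
  refine le_antisymm ((Subgroup.closure_le _).2 ?_) ?_
  · rintro x (rfl | rfl)
    exacts [mul_mem htorG hyG, mul_mem hXG hnG]
  change G1 ≤ Subgroup.closure {a, b}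
  set M := Subgroup.closure ({a, b} : Set (GL D.Idx F)) with hM
  have haM : a ∈ M := Subgroup.subset_closure (Set.mem_insert _ _)
  have hbM : b ∈ M := Subgroup.subset_closure (Set.mem_insert_of_mem _ rfl)
  have hp : p.Prime :=
    (CharP.char_is_prime_or_zero F p).resolve_right (CharP.char_ne_zero_of_finite F p)
  have htorM : tor ∈ M := by
    have hord : orderOf tor ∣ Fintype.card F - 1 := by
      refine orderOf_dvd_of_pow_eq_one ?_
      rw [htor, ← map_pow, show c ^ (Fintype.card F - 1) = 1 from ?_, map_one]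
      funext k
      exact Units.ext (by
        simpa using FiniteField.pow_card_sub_one_eq_one ((c k : F)) (Units.ne_zero _))
    have hcop : p.Coprime (orderOf tor) := by
      refine Nat.Coprime.coprime_dvd_right hord ((hp.coprime_iff_not_dvd).2 fun hd => ?_)
      obtain ⟨m, -, hm⟩ := FiniteField.card F p
      have h1 : p ∣ Fintype.card F := hm ▸ dvd_pow_self p m.ne_zero
      have h2 := Nat.dvd_sub h1 hd
      have := Fintype.one_lt_card (α := F)
      rw [show Fintype.card F - (Fintype.card F - 1) = 1 by omega, Nat.dvd_one] at h2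
      exact hp.one_lt.ne' h2
    obtain ⟨m, hm⟩ := exists_pow_eq_self_of_coprime hcop
    rw [← hm]
    refine pow_mem ?_ m
    have : a ^ p = tor ^ p := by rw [ha, hy.mul_pow, hyp, mul_one]
    rw [← this]
    exact pow_mem haM p
  have hyM : y ∈ M := (Subgroup.mul_mem_cancel_left M htorM).1 haM
  set χ : F := ((g ^ e : Fˣ) : F) with hχ
  have hχne : χ ≠ 1 := fun h => hne (Units.ext h)
  set k := n * tor * n⁻¹ with hk
  have hkx : ∀ u : F, k * twX C q A u * k⁻¹ = twX C q A (κ * u) :=
    twX_conj_scale C (hmap ▸ twScale_conj C hlt hA')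
  have htk : tor * k = k * tor := by
    have h1 : k ∈ C.R.torus.range := by
      have h2 := C.mem_diagonal_of_moves_one (n := k) ?_ (?_ : C.Moves k 1)
      · rwa [C.diagonalSubgroup_eq] at h2
      · exact mul_mem (mul_mem (nElt_mem_monomial C w) (C.torus_mem_monomial c))
          (inv_mem (nElt_mem_monomial C w))
      · have h3 := ChevCore.Moves.mul C (ChevCore.Moves.mul C
          (ChevCore.Acts.moves C (nElt_acts C w)) (C.moves_torus c))
          (ChevCore.Acts.moves C (ChevCore.Acts.inv C (nElt_acts C w)))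
        simpa [hk, htor, hn] using h3
    obtain ⟨d, hd⟩ := h1
    rw [← hd, htor, ← map_mul, ← map_mul, mul_comm]
  have hq0 : q ≠ 0 := by omega
  have hc₀ : twX C q A ((χ - 1) * (1 - κ)) ∈ M := by
    have h1 : twX C q A (1 - κ) * k ∈ M := by
      have : twX C q A (1 - κ) * k = b * tor * b⁻¹ := by
        rw [hb, show twX C q A 1 * n * tor * (twX C q A 1 * n)⁻¹ =
          twX C q A 1 * (k * (twX C q A 1)⁻¹ * k⁻¹) * k by rw [hk]; group,
          ← twX_neg C hq0 hadd hcl, hkx, ← twX_add C hadd hcl]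
        congr 2; ring
      rw [this]; exact mul_mem (mul_mem hbM htorM) (inv_mem hbM)
    have h2 : tor * (twX C q A (1 - κ) * k) * tor⁻¹ * (twX C q A (1 - κ) * k)⁻¹ =
        twX C q A ((χ - 1) * (1 - κ)) := by
      rw [show tor * (twX C q A (1 - κ) * k) * tor⁻¹ * (twX C q A (1 - κ) * k)⁻¹ =
        (tor * twX C q A (1 - κ) * tor⁻¹) * (tor * k * tor⁻¹ * k⁻¹) *
          (twX C q A (1 - κ))⁻¹ by group,
        htk, mul_inv_cancel_right, mul_inv_cancel, mul_one, twX_conj_scale C hA,
        ← twX_neg C hq0 hadd hcl, ← twX_add C hadd hcl]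
      congr 1; ring
    rw [← h2]
    exact mul_mem (mul_mem (mul_mem htorM h1) (inv_mem htorM)) (inv_mem h1)
  let Aset : AddSubgroup F :=
    { carrier := {u | twX C q A u ∈ M}
      add_mem' := fun {u v} hu hv => by
        show twX C q A (u + v) ∈ M
        rw [twX_add C hadd hcl]; exact mul_mem hu hv
      zero_mem' := by show twX C q A 0 ∈ M; rw [twX_zero C hq0]; exact one_mem _
      neg_mem' := fun {u} hu => by
        show twX C q A (-u) ∈ M
        rw [twX_neg C hq0 hadd hcl]; exact inv_mem hu }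
  have hfull : ∀ t, twX C q A t ∈ M := fun t =>
    mem_of_stable hg he Aset (c₀ := (χ - 1) * (1 - κ)) hc₀
      (mul_ne_zero (sub_ne_zero.2 hχne) (sub_ne_zero.2 hκ.symm))
      (fun u hu => by
        show twX C q A _ ∈ M
        rw [← twX_conj_scale C hA]
        exact mul_mem (mul_mem htorM hu) (inv_mem htorM)) t
  exact hspread M htorM hyM ((Subgroup.mul_mem_cancel_left M (hfull 1)).1 hbM) hfull

end CfsgLib.ChevGen
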