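import Cfsg.Agent.Lib.ChevGen.TwoGenTwo
import Cfsg.Agent.Lib.ChevStr.InstanceTables

/-!
The certificates of the two-generator schemes for the seven tabulated Chevalley types.
-/

set_option autoImplicit false

namespace CfsgLib.ChevGen

open Cfsg.Lie CfsgLib.Chev

theorem genCheck_G2 : ∃ (w : List (Fin chevG2.rank)) (i j : Fin chevG2.rank) (x y : ℤ)
    (r' t s len : ℕ) (cert : List (ℕ × ℕ)),
    genCheck chevG2 Chev.G2.cert.T w i j x y r' t s len cert = true :=
  ⟨List.finRange _, ⟨0, by decide⟩, ⟨1, by decide⟩, -1, -2, 6, 4, 2, 6,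
    [], by decide +kernel⟩

theorem genCheck_B2 : ∃ (w : List (Fin chevB2.rank)) (i j : Fin chevB2.rank) (x y : ℤ)
    (r' t s len : ℕ) (cert : List (ℕ × ℕ)),
    genCheck chevB2 Chev.B2.cert.T w i j x y r' t s len cert = true :=
  ⟨List.finRange _, ⟨0, by decide⟩, ⟨1, by decide⟩, -1, -1, 2, 3, 7, 4,
    [], by decide +kernel⟩

theorem genCheck_D4 : ∃ (w : List (Fin chevD4.rank)) (i j : Fin chevD4.rank) (x y : ℤ)
    (r' t s len : ℕ) (cert : List (ℕ × ℕ)),
    genCheck chevD4 Chev.D4.cert.T w i j x y r' t s len cert = true :=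
  ⟨List.finRange _, ⟨0, by decide⟩, ⟨1, by decide⟩, -2, -1, 8, 9, 1, 6,
    [(1, 9), (1, 13), (1, 18), (1, 21), (2, 13), (2, 18), (2, 22), (5, 21), (5, 22), (10, 21),
      (10, 22), (14, 22)], by decide +kernel⟩

theorem genCheck_F4 : ∃ (w : List (Fin chevF4.rank)) (i j : Fin chevF4.rank) (x y : ℤ)
    (r' t s len : ℕ) (cert : List (ℕ × ℕ)),
    genCheck chevF4 Chev.F4.cert.T w i j x y r' t s len cert = true :=
  ⟨List.finRange _, ⟨0, by decide⟩, ⟨1, by decide⟩, -3, -2, 20, 23, 30, 12,
    [(4, 16), (4, 17), (5, 17), (5, 19), (5, 24), (9, 19), (9, 22), (9, 24), (11, 33), (12, 25),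
      (14, 36), (16, 22), (16, 27), (16, 29), (23, 29), (23, 42), (27, 33), (27, 35), (28, 36),
      (28, 38), (30, 36), (30, 42), (30, 43), (33, 40)], by decide +kernel⟩

theorem genCheck_E6 : ∃ (w : List (Fin chevE6.rank)) (i j : Fin chevE6.rank) (x y : ℤ)
    (r' t s len : ℕ) (cert : List (ℕ × ℕ)),
    genCheck chevE6 Chev.E6.cert.T w i j x y r' t s len cert = true :=
  ⟨List.finRange _, ⟨0, by decide⟩, ⟨1, by decide⟩, -3, -2, 12, 2, 21, 12,
    [(2, 24), (2, 32), (2, 45), (2, 60), (2, 62), (2, 63), (7, 29), (7, 33), (7, 35), (7, 48),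
      (7, 66), (12, 35), (12, 60), (12, 62), (12, 66), (14, 17), (14, 24), (14, 60), (14, 68),
      (15, 19), (15, 62), (15, 63), (15, 66), (17, 34), (17, 36), (17, 43), (17, 49), (17, 55),
      (17, 68), (19, 45), (19, 54), (19, 55), (19, 63), (19, 68), (24, 34), (24, 53), (29, 68),
      (31, 35), (31, 44), (31, 53), (33, 49), (33, 63), (33, 66), (35, 60), (35, 68), (43, 66),
      (45, 62), (48, 68)], by decide +kernel⟩

theorem genCheck_E7 : ∃ (w : List (Fin chevE7.rank)) (i j : Fin chevE7.rank) (x y : ℤ)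
    (r' t s len : ℕ) (cert : List (ℕ × ℕ)),
    genCheck chevE7 Chev.E7.cert.T w i j x y r' t s len cert = true :=
  ⟨List.finRange _, ⟨0, by decide⟩, ⟨1, by decide⟩, -3, -2, 28, 2, 7, 18,
    [(0, 97), (0, 102), (0, 109), (0, 119), (0, 123), (0, 124), (1, 74), (1, 118), (1, 119),
      (1, 123), (1, 125), (2, 80), (2, 92), (2, 118), (2, 124), (2, 125), (6, 80), (6, 99),
      (6, 109), (6, 124), (6, 125), (7, 72), (7, 77), (7, 92), (7, 97), (7, 123), (7, 124),
      (16, 53), (16, 74), (16, 94), (16, 99), (16, 119), (16, 125), (23, 50), (23, 51), (23, 56),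
      (23, 63), (23, 94), (23, 98), (23, 99), (23, 108), (23, 125), (26, 33), (26, 102),
      (26, 109), (26, 119), (28, 39), (28, 46), (28, 93), (28, 94), (28, 108), (28, 115),
      (28, 118), (28, 125), (33, 68), (33, 72), (33, 90), (33, 118), (33, 123), (39, 56),
      (39, 91), (45, 27), (45, 52), (45, 82), (45, 90), (45, 103), (45, 119), (45, 120),
      (45, 123), (51, 32), (51, 76), (51, 83), (51, 109), (51, 110), (51, 115), (51, 124),
      (53, 65), (53, 91), (53, 92), (53, 118), (56, 117), (59, 61), (59, 90), (59, 91), (59, 106),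
      (59, 122), (61, 108), (61, 114), (61, 117), (63, 104)], by decide +kernel⟩

theorem genCheck_E8 : ∃ (w : List (Fin chevE8.rank)) (i j : Fin chevE8.rank) (x y : ℤ)
    (r' t s len : ℕ) (cert : List (ℕ × ℕ)),
    genCheck chevE8 Chev.E8.cert.T w i j x y r' t s len cert = true :=
  ⟨List.finRange _, ⟨0, by decide⟩, ⟨1, by decide⟩, -3, -2, 14, 0, 36, 30,
    [(0, 160), (0, 202), (0, 203), (0, 217), (0, 218), (0, 223), (0, 224), (0, 225), (0, 231),
      (0, 232), (0, 233), (0, 236), (0, 237), (0, 238), (1, 202), (1, 217), (1, 218), (1, 219),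
      (1, 223), (1, 224), (1, 225), (1, 231), (1, 232), (1, 233), (1, 235), (1, 236), (1, 237),
      (1, 239), (2, 217), (2, 219), (2, 223), (2, 224), (2, 225), (2, 227), (2, 231), (2, 232),
      (2, 233), (2, 234), (2, 235), (2, 236), (2, 238), (2, 239), (3, 205), (3, 219), (3, 223),
      (3, 225), (3, 226), (3, 227), (3, 231), (3, 232), (3, 233), (3, 234), (3, 235), (3, 237),
      (3, 238), (3, 239), (4, 185), (4, 204), (4, 205), (4, 225), (4, 226), (4, 227), (4, 231),
      (4, 232), (4, 233), (4, 234), (4, 236), (4, 237), (4, 238), (5, 170), (5, 184), (5, 185),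
      (5, 204), (5, 205), (5, 225), (5, 232), (5, 233), (5, 235), (5, 236), (5, 237), (6, 225),
      (6, 234), (6, 235), (6, 236), (6, 237), (6, 238), (6, 239), (7, 136), (7, 137), (7, 234),
      (7, 235), (7, 236), (7, 237), (7, 238), (7, 239), (8, 235), (8, 236), (8, 237), (8, 238),
      (8, 239), (12, 235), (12, 236), (12, 237), (13, 169), (13, 170), (13, 184), (13, 185),
      (13, 235), (13, 236), (14, 144), (14, 145), (14, 150), (14, 151), (14, 154), (14, 155),
      (14, 233), (14, 234), (14, 235), (14, 236), (14, 237), (14, 238), (14, 239), (15, 159),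
      (15, 160), (15, 161), (15, 202), (15, 203), (15, 237), (15, 238), (15, 239), (16, 158),
      (16, 236), (16, 237), (16, 238), (16, 239), (20, 236), (20, 237), (20, 238), (21, 161),
      (21, 183), (21, 238), (21, 239), (22, 132), (22, 237), (22, 238), (22, 239), (34, 234),
      (34, 235), (34, 236), (35, 234), (35, 235), (36, 224), (36, 239), (37, 224), (37, 238),
      (37, 239), (54, 226), (54, 234), (54, 235), (55, 226), (55, 234), (69, 226), (69, 234),
      (70, 204), (70, 226), (78, 218), (78, 224), (79, 224), (79, 239), (105, 203), (105, 218),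
      (106, 218), (106, 224), (110, 218), (129, 226), (134, 184), (134, 204), (161, 169),
      (161, 184), (169, 203)], by decide +kernel⟩

theorem genCheckTwo_E6 : ∃ (w : List (Fin chevE6.rank)) (r len : ℕ) (cert : List (ℕ × ℕ)),
    genCheckTwo chevE6 Chev.E6.cert.T w r len cert = true :=
  ⟨List.finRange _, 56, 12,
    [(8, 28), (8, 36), (8, 52), (8, 56), (11, 23), (11, 36), (11, 56), (11, 59), (23, 3),
      (23, 26), (23, 28), (23, 35), (23, 37), (23, 47), (28, 5), (28, 9), (28, 15), (28, 22),
      (28, 34), (28, 39), (28, 42), (36, 19), (36, 37), (36, 59), (37, 5), (37, 9), (37, 20),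
      (37, 39), (37, 47), (39, 1), (39, 13), (39, 24), (39, 38), (39, 42), (39, 52), (42, 4),
      (42, 26), (42, 27), (42, 40), (42, 41), (42, 47), (42, 48), (42, 56), (47, 22), (47, 32),
      (47, 38), (47, 44), (47, 57), (47, 59), (47, 60), (52, 40), (52, 56), (52, 59), (52, 64),
      (56, 43), (56, 51), (56, 55), (59, 50), (59, 54), (23, 71)], by decide +kernel⟩

theorem genCheckTwo_E7 : ∃ (w : List (Fin chevE7.rank)) (r len : ℕ) (cert : List (ℕ × ℕ)),
    genCheckTwo chevE7 Chev.E7.cert.T w r len cert = true :=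
  ⟨List.finRange _, 78, 18,
    [(12, 21), (12, 37), (12, 84), (12, 107), (18, 37), (18, 49), (18, 82), (18, 113), (21, 41),
      (21, 52), (21, 88), (21, 95), (30, 41), (30, 43), (30, 47), (30, 104), (37, 27), (37, 29),
      (37, 76), (37, 81), (37, 104), (41, 20), (41, 32), (41, 73), (41, 78), (41, 113), (43, 15),
      (43, 49), (43, 50), (43, 51), (43, 52), (43, 78), (43, 81), (43, 107), (47, 7), (47, 27),
      (47, 49), (47, 51), (47, 81), (47, 82), (47, 84), (49, 23), (49, 25), (49, 32), (49, 45),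
      (49, 62), (49, 73), (49, 75), (49, 88), (76, 10), (76, 50), (76, 51), (76, 78), (76, 82),
      (76, 93), (76, 107), (78, 5), (78, 45), (78, 46), (78, 95), (78, 96), (78, 97), (78, 98),
      (78, 118), (82, 23), (82, 44), (82, 45), (82, 46), (82, 73), (82, 75), (82, 95), (82, 97),
      (84, 3), (84, 39), (84, 42), (84, 52), (84, 71), (84, 95), (84, 97), (84, 104), (84, 105),
      (88, 33), (88, 35), (88, 40), (88, 44), (88, 54), (88, 61), (88, 63), (88, 96), (88, 98),
      (88, 102), (88, 107), (88, 113), (95, 28), (95, 56), (95, 80), (95, 85), (95, 86), (95, 91),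
      (95, 122), (104, 66), (107, 23), (113, 25), (113, 64), (0, 106), (0, 111), (0, 116),
      (1, 114)], by decide +kernel⟩

theorem genCheckTwo_E8 : ∃ (w : List (Fin chevE8.rank)) (r len : ℕ) (cert : List (ℕ × ℕ)),
    genCheckTwo chevE8 Chev.E8.cert.T w r len cert = true :=
  ⟨List.finRange _, 162, 30,
    [(47, 60), (47, 63), (47, 85), (47, 94), (47, 97), (47, 135), (47, 138), (47, 190), (49, 63),
      (49, 85), (49, 86), (49, 94), (49, 97), (49, 165), (49, 168), (49, 192), (59, 17), (59, 85),
      (59, 86), (59, 90), (59, 101), (59, 162), (59, 165), (59, 168), (59, 179), (60, 17),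
      (60, 19), (60, 31), (60, 86), (60, 90), (60, 101), (60, 104), (60, 116), (60, 162),
      (60, 176), (60, 180), (63, 19), (63, 38), (63, 88), (63, 90), (63, 91), (63, 101),
      (63, 104), (63, 119), (63, 142), (63, 145), (63, 179), (71, 82), (71, 85), (71, 86),
      (71, 94), (71, 162), (71, 165), (71, 180), (71, 190), (74, 17), (74, 31), (74, 32),
      (74, 85), (74, 86), (74, 90), (74, 97), (74, 116), (74, 162), (74, 168), (74, 180),
      (74, 190), (77, 86), (77, 90), (77, 91), (77, 104), (77, 165), (77, 168), (77, 179),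
      (77, 180), (85, 28), (85, 38), (85, 51), (85, 57), (85, 119), (85, 142), (85, 145),
      (85, 153), (86, 9), (86, 69), (86, 76), (86, 113), (86, 123), (86, 149), (86, 154),
      (90, 11), (90, 37), (90, 72), (90, 118), (90, 135), (90, 138), (90, 151), (90, 153),
      (94, 38), (94, 76), (94, 99), (94, 101), (94, 142), (94, 143), (94, 154), (94, 176),
      (97, 76), (97, 104), (97, 145), (97, 146), (97, 154), (97, 176), (101, 56), (101, 93),
      (101, 135), (101, 136), (101, 149), (101, 192), (104, 56), (104, 62), (104, 65), (104, 137),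
      (104, 138), (104, 139), (104, 140), (104, 149), (104, 192), (135, 51), (135, 99),
      (135, 100), (135, 102), (135, 142), (135, 145), (135, 162), (135, 176), (135, 179),
      (138, 99), (138, 103), (138, 143), (138, 145), (138, 146), (138, 162), (138, 176),
      (138, 179), (138, 180), (142, 93), (142, 137), (142, 140), (142, 163), (142, 165),
      (142, 166), (142, 168), (142, 189), (142, 190), (142, 192), (142, 200), (142, 201),
      (145, 23), (145, 96), (145, 140), (145, 163), (145, 166), (145, 168), (145, 190),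
      (145, 192), (145, 201), (149, 162), (149, 164), (149, 165), (149, 167), (149, 174),
      (149, 176), (149, 179), (149, 180), (153, 165), (153, 168), (153, 183), (153, 189),
      (153, 190), (153, 212), (154, 165), (154, 168), (154, 173), (154, 180), (154, 190),
      (154, 192), (154, 201), (162, 148), (162, 156), (162, 219), (162, 220), (162, 221),
      (162, 222), (162, 224), (162, 225), (165, 147), (165, 155), (165, 161), (165, 213),
      (165, 222), (165, 225), (168, 147), (168, 150), (168, 159), (168, 225), (176, 220),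
      (179, 222), (190, 159), (190, 207), (192, 214)], by decide +kernel⟩

theorem genCheckSix_D4 : ∃ (w : List (Fin chevD4.rank)) (r p s k len : ℕ)
    (cert₁ cert₂ : List (ℕ × ℕ)),
    genCheckSix chevD4 Chev.D4.cert.T w r p s k len cert₁ cert₂ = true :=
  ⟨List.finRange _, 1, 7, 5, 2, 6,
    [(1, 9), (1, 18), (5, 9), (5, 22), (14, 18), (14, 22)],
    [(1, 13), (1, 21), (2, 18), (2, 22), (5, 21), (10, 22)], by decide +kernel⟩

theorem genCheckSix_F4 : ∃ (w : List (Fin chevF4.rank)) (r p s k len : ℕ)
    (cert₁ cert₂ : List (ℕ × ℕ)),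
    genCheckSix chevF4 Chev.F4.cert.T w r p s k len cert₁ cert₂ = true :=
  ⟨List.finRange _, 0, 10, 21, 8, 12,
    [(0, 32), (0, 46), (1, 45), (1, 47), (2, 41), (2, 46), (6, 21), (6, 45), (15, 26), (15, 47),
      (21, 32), (26, 41)],
    [(0, 39), (0, 40), (1, 40), (1, 44), (2, 44), (3, 40), (3, 45), (3, 46), (7, 44), (7, 46),
      (7, 47), (8, 47)], by decide +kernel⟩

end CfsgLib.ChevGen
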