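import Cfsg.Agent.Lib.ChevGen.TwoGen

/-!
Two generators of a Chevalley group over the field with two elements: a root element, possibly
times an element of order three of a commuting rank one subgroup, and a representative of a Coxeter
element.
-/

set_option autoImplicit false

namespace CfsgLib.ChevGen

open Cfsg.Lie CfsgLib.ChevStr CfsgLib.Chev
open scoped MatrixGroups

/-- The coefficients that survive in characteristic two. -/
def oddCoeff (c : ℤ) : Bool := decide (c % 2 = 1)

/-- The data of the scheme with generators a root element and a Coxeter representative. -/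
def genCheckTwo (D : ChevalleyDatum) (T : Data) (w : List (Fin D.rank)) (r len : ℕ)
    (cert : List (ℕ × ℕ)) : Bool :=
  Nat.blt r D.nroots &&
  let all := genRun T oddCoeff cert (coxOrbit D w len r)
  (List.range D.nroots).all fun k => all.contains k

/-- The data of the scheme with a root element times an element of order three. -/
def genCheckSix (D : ChevalleyDatum) (T : Data) (w : List (Fin D.rank)) (r p s k len : ℕ)
    (cert₁ cert₂ : List (ℕ × ℕ)) : Bool :=
  Nat.blt r T.n && Nat.blt p T.n && Nat.blt s T.n && Nat.blt k T.n &&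
  !Nat.beq r p && !Nat.beq r (T.row p).neg && !Nat.beq p (T.row r).neg && !Nat.beq s p &&
  !Nat.beq s (T.row p).neg && !Nat.beq s (T.row (T.row p).neg).neg &&
  (T.commFast p r).isEmpty && (T.commFast (T.row p).neg r).isEmpty &&
  (T.commFast (T.row p).neg s).isEmpty &&
  let known := genRun T oddCoeff cert₁ (coxOrbit D w len r)
  known.contains s &&
  (match (T.commFast p s).filter fun c => !known.contains c.1 with
    | [(k', c, _, _)] => Nat.beq k' k && oddCoeff c
    | _ => false) &&
  let all := genRun T oddCoeff cert₂ (known ++ coxOrbit D w len k)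
  (List.range D.nroots).all fun q => all.contains q

variable {D : ChevalleyDatum} {F : Type*} [Field F]

theorem eq_zero_or_one_of_card_two [Fintype F] (hF : Fintype.card F = 2) (t : F) :
    t = 0 ∨ t = 1 := by
  classical
  by_contra h
  rw [not_or] at h
  have h1 : ({0, 1, t} : Finset F).card ≤ Fintype.card F := Finset.card_le_univ _
  rw [Finset.card_insert_of_notMem (by simp [eq_comm, h.1]),
    Finset.card_insert_of_notMem (by simp [eq_comm, h.2]), Finset.card_singleton, hF] at h1
  omega

theorem two_eq_zero_of_card_two [Fintype F] (hF : Fintype.card F = 2) : (2 : F) = 0 := by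
  rcases eq_zero_or_one_of_card_two hF (2 : F) with h | h
  · exact h
  · exact absurd (show (1 : F) = 0 by linear_combination h) one_ne_zero

theorem cast_oddCoeff [Fintype F] (hF : Fintype.card F = 2) {c : ℤ} (h : oddCoeff c = true) :
    (c : F) = 1 := by
  simp only [oddCoeff, decide_eq_true_eq] at h
  rw [show c = 2 * (c / 2) + 1 by omega]
  push_cast
  rw [two_eq_zero_of_card_two hF, zero_mul, zero_add]

theorem fullIn_of_one_mem (C : ChevCore D F) [Fintype F] (hF : Fintype.card F = 2)
    {M : Subgroup (GL D.Idx F)} {r : ℕ} (h : C.xGL r 1 ∈ M) : FullIn C M r := by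
  intro t
  rcases eq_zero_or_one_of_card_two hF t with rfl | rfl
  · rw [C.xGL_zero]; exact one_mem _
  · exact h

theorem commute_of_commFast_nil (C : ChevCore D F) {T : Data} (hv : T.Valid D) {a b : ℕ}
    (ha : a < T.n) (hb : b < T.n) (hne : b ≠ a) (hneg : b ≠ (T.row a).neg)
    (h : T.commFast a b = []) (t u : F) : Commute (C.xGL a t) (C.xGL b u) := by
  rw [hv.neg_eq a ha] at hneg
  have h1 := C.xGL_comm (hv.hn ▸ ha) (hv.hn ▸ hb) hne hneg t u
  rw [ChevalleyDatum.commWord, hv.commTerms_eq ha hb, h] at h1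
  simpa [ChevCore.wordGL, Commute, SemiconjBy] using h1.symm

/-- Two generators over the field with two elements: a root element and a Coxeter representative. -/
theorem two_generated_of_genCheckTwo (C : ChevCore D F) [Fintype F] (hF : Fintype.card F = 2)
    {T : Data} (hv : T.Valid D) {w : List (Fin D.rank)} {r len : ℕ} {cert : List (ℕ × ℕ)}
    (h : genCheckTwo D T w r len cert = true) :
    ∃ a b : ↥(D.group F), Subgroup.closure ({a, b} : Set ↥(D.group F)) = ⊤ := by
  simp only [genCheckTwo, Bool.and_eq_true, Nat.blt_eq, List.contains_iff_mem, List.all_eq_true,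
    List.mem_range] at h
  obtain ⟨hr, hall⟩ := h
  obtain ⟨n, hnN, hact⟩ := exists_acts_mem_monomial C w
  refine two_generated C (C.xGL r 1) n (C.xGL_mem_group _ _) (C.monomial_le_group hnN) ?_
  set M := Subgroup.closure ({C.xGL r 1, n} : Set (GL D.Idx F))
  have hrM : FullIn C M r :=
    fullIn_of_one_mem C hF (Subgroup.subset_closure (Set.mem_insert _ _))
  have hnM : n ∈ M := Subgroup.subset_closure (Set.mem_insert_of_mem _ rfl)
  intro q hq
  exact genRun_sound C hv (fun c hc => by rw [cast_oddCoeff hF hc]; exact one_ne_zero) cert _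
    (fullIn_orbit C hnM hact len r hr hrM) q (hall q hq)

theorem slX_slY_pow_three (h2 : (2 : F) = 0) :
    (ChevCore.slX 1 * ChevCore.slY 1 : Matrix.SpecialLinearGroup (Fin 2) F) ^ 3 = 1 := by
  ext a b
  fin_cases a <;> fin_cases b <;>
    simp [pow_succ, Matrix.mul_apply, Fin.sum_univ_two] <;>
    first
      | ring1
      | linear_combination (7 : F) * h2
      | linear_combination (6 : F) * h2
      | linear_combination (4 : F) * h2
      | linear_combination (3 : F) * h2
      | linear_combination (2 : F) * h2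

/-- Two generators over the field with two elements: a root element times an element of order
three of a commuting rank one subgroup, and a Coxeter representative. -/
theorem two_generated_of_genCheckSix (C : ChevCore D F) (hη : C.EtaNeg) [Fintype F]
    (hF : Fintype.card F = 2) {T : Data} (hv : T.Valid D) {w : List (Fin D.rank)}
    {r p s k len : ℕ} {cert₁ cert₂ : List (ℕ × ℕ)}
    (h : genCheckSix D T w r p s k len cert₁ cert₂ = true) :
    ∃ a b : ↥(D.group F), Subgroup.closure ({a, b} : Set ↥(D.group F)) = ⊤ := by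
  classical
  simp only [genCheckSix, Bool.and_eq_true, Nat.blt_eq, List.contains_iff_mem, List.all_eq_true,
    List.mem_range, Bool.not_eq_true', Bool.eq_false_iff, ne_eq, Nat.beq_eq,
    List.isEmpty_iff] at h
  obtain ⟨⟨⟨⟨⟨⟨⟨⟨⟨⟨⟨⟨⟨hr, hp⟩, hs⟩, hk⟩, hrp⟩, hrnp⟩, hpnr⟩, hsp⟩, hsnp⟩, hsnnp⟩, hc1⟩, hc2⟩, hc3⟩,
    ⟨hsK, hmatch⟩, hall⟩ := h
  have hnp : (T.row p).neg < T.n := hv.neg_lt p hp
  have h2 := two_eq_zero_of_card_two hF
  have hinv : ∀ q, (C.xGL q (1 : F))⁻¹ = C.xGL q 1 := fun q => by
    rw [C.xGL_inv]; congr 1; linear_combination -h2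
  obtain ⟨n, hnN, hact⟩ := exists_acts_mem_monomial C w
  have hpn : p < D.nroots := hv.hn ▸ hp
  obtain ⟨φ, -, hφ⟩ := C.exists_slHom hη hpn
  set y := C.xGL p 1 * C.xGL (D.neg p) 1 with hy
  have hy3 : y ^ 3 = 1 := by
    rw [hy, ← (hφ 1).1, ← (hφ 1).2, ← map_mul, ← map_pow, slX_slY_pow_three h2, map_one]
  have hcomm : Commute (C.xGL r 1) y := by
    have h1 := commute_of_commFast_nil C hv hp hr hrp hrnp hc1 (1 : F) 1
    have h3 : r ≠ (T.row (T.row p).neg).neg := by
      rw [hv.neg_eq _ hnp, hv.neg_eq p hp, C.R.neg_neg _ hpn]; exact hrp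
    have h4 := commute_of_commFast_nil C hv hnp hr hrnp h3 hc2 (1 : F) 1
    rw [hv.neg_eq p hp] at h4
    exact Commute.mul_right h1.symm h4.symm
  refine two_generated C (C.xGL r 1 * y) n
    (mul_mem (C.xGL_mem_group _ _) (mul_mem (C.xGL_mem_group _ _) (C.xGL_mem_group _ _)))
    (C.monomial_le_group hnN) ?_
  set M := Subgroup.closure ({C.xGL r 1 * y, n} : Set (GL D.Idx F))
  have haM : C.xGL r 1 * y ∈ M := Subgroup.subset_closure (Set.mem_insert _ _)
  have hnM : n ∈ M := Subgroup.subset_closure (Set.mem_insert_of_mem _ rfl)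
  have hr3 : C.xGL r 1 ∈ M := by
    have h1 := pow_mem haM 3
    have h3 : C.xGL r 1 * C.xGL r 1 = 1 := mul_eq_one_iff_inv_eq.2 (hinv r)
    rwa [hcomm.mul_pow, hy3, mul_one, pow_succ, pow_two, h3, one_mul] at h1
  have hyM : y ∈ M := (Subgroup.mul_mem_cancel_left M hr3).1 haM
  have hok : ∀ c, oddCoeff c = true → (c : F) ≠ 0 := fun c hc => by
    rw [cast_oddCoeff hF hc]; exact one_ne_zero
  set known := genRun T oddCoeff cert₁ (coxOrbit D w len r) with hknown
  have hK : ∀ q ∈ known, FullIn C M q :=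
    genRun_sound C hv hok cert₁ _
      (fullIn_orbit C hnM hact len r (hv.hn ▸ hr) (fullIn_of_one_mem C hF hr3))
  split at hmatch
  swap
  · simp at hmatch
  rename_i k' c i j heq
  simp only [Bool.and_eq_true, Nat.beq_eq] at hmatch
  obtain ⟨rfl, hc⟩ := hmatch
  -- the commutator of `p` and `s`
  have hW : C.wordGL (D.commWord F p s 1 1) ∈ M := by
    have hneg : s ≠ D.neg p := by rw [← hv.neg_eq p hp]; exact hsnp
    have h1 := C.xGL_comm hpn (hv.hn ▸ hs) hsp hneg (1 : F) 1
    have h4 : Commute (C.xGL (D.neg p) 1) (C.xGL s 1) := by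
      have := commute_of_commFast_nil C hv hnp hs hsnp hsnnp hc3 (1 : F) 1
      rwa [hv.neg_eq p hp] at this
    have h5 : C.xGL p 1 * C.xGL s 1 * (C.xGL p 1)⁻¹ ∈ M := by
      have : C.xGL p 1 * C.xGL s 1 * (C.xGL p 1)⁻¹ = y * C.xGL s 1 * y⁻¹ := by
        rw [hy, mul_assoc (C.xGL p 1) (C.xGL (D.neg p) 1), h4.eq]; group
      rw [this]
      exact mul_mem (mul_mem hyM (hK s hsK 1)) (inv_mem hyM)
    rw [show C.wordGL (D.commWord F p s 1 1) = (C.xGL p 1 * C.xGL s 1)⁻¹ *
      (C.xGL s 1 * C.xGL p 1) by rw [h1]; group]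
    have h6 : (C.xGL p 1 * C.xGL s 1)⁻¹ * (C.xGL s 1 * C.xGL p 1) =
        (C.xGL s 1)⁻¹ * (C.xGL p 1 * C.xGL s 1 * (C.xGL p 1)⁻¹) := by
      simp [hinv, mul_assoc]
    rw [h6]
    exact mul_mem (inv_mem (hK s hsK 1)) h5
  have hk1 : C.xGL k' ((c : F) * (-1 : F) ^ i * (1 : F) ^ j) ∈ M := by
    rw [ChevCore.wordGL, ChevalleyDatum.commWord, List.map_map, hv.commTerms_eq hp hs] at hW
    exact mem_of_prod
      (fun q : ℕ × ℤ × ℕ × ℕ => C.xGL q.1 ((q.2.1 : F) * (-1 : F) ^ q.2.2.1 * (1 : F) ^ q.2.2.2))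
      _ _ _ heq (fun x _ hx => hK x.1 (by simpa using hx) _) hW
  rw [cast_oddCoeff hF hc, one_pow, mul_one, one_mul,
    show (-1 : F) = 1 by linear_combination -h2, one_pow] at hk1
  have hkfull := fullIn_orbit C hnM hact len k' (hv.hn ▸ hk) (fullIn_of_one_mem C hF hk1)
  intro q hq
  refine genRun_sound C hv hok cert₂ _ (fun q hq' => ?_) q (hall q hq)
  rcases List.mem_append.1 hq' with hq' | hq'
  exacts [hK q hq', hkfull q hq']

end CfsgLib.ChevGen
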